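import Cfsg.Agent.Lib.OddBase.Colour

/-!
An invariant commutative ring of endomorphisms of an irreducible module is a field, unless its primitive
idempotents give blocks of imprimitivity, in which case pairs are built block by block.
-/

set_option autoImplicit false

namespace CfsgLib.OddBase

open MulAction

universe u

variable {A V : Type u} [Group A] [AddCommGroup V] [DistribMulAction A V]

/-- The endomorphism of an element. -/
def rho : A →* AddMonoid.End V := DistribMulAction.toAddMonoidEnd A V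

theorem rho_apply (a : A) (x : V) : (rho a : AddMonoid.End V) x = a • x := rfl

/-- A commutative ring of endomorphisms normalized by the group. -/
structure InvRing (A : Type u) [Group A] [DistribMulAction A V] (R : Subring (AddMonoid.End V)) : Prop where
  comm : ∀ x ∈ R, ∀ y ∈ R, x * y = y * x
  inv : ∀ (a : A), ∀ x ∈ R, rho a * x * rho a⁻¹ ∈ R

/-- The ring generated by a normal abelian subgroup. -/
def genRing (N : Subgroup A) : Subring (AddMonoid.End V) := Subring.closure (rho '' (N : Set A))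

theorem invRing_genRing {N : Subgroup A} [hn : N.Normal] (hab : ∀ x ∈ N, ∀ y ∈ N, x * y = y * x) :
    InvRing (V := V) A (genRing N) := by
  have h1 : ∀ x ∈ genRing (V := V) N, ∀ n ∈ N, x * rho n = rho n * x := fun x hx n hn => by
    induction hx using Subring.closure_induction with
    | mem y hy => obtain ⟨m, hm, rfl⟩ := hy; rw [← map_mul, ← map_mul, hab m hm n hn]
    | zero => simp
    | one => simp
    | add y z _ _ h1 h2 => rw [add_mul, mul_add, h1, h2]
    | neg y _ h1 => rw [neg_mul, mul_neg, h1]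
    | mul y z _ _ h1 h2 => rw [mul_assoc, h2, ← mul_assoc, h1, mul_assoc]
  refine ⟨fun x hx y hy => ?_, fun a x hx => ?_⟩
  · induction hy using Subring.closure_induction with
    | mem z hz => obtain ⟨m, hm, rfl⟩ := hz; exact h1 x hx m hm
    | zero => simp
    | one => simp
    | add y z _ _ h1 h2 => rw [add_mul, mul_add, h1, h2]
    | neg y _ h1 => rw [neg_mul, mul_neg, h1]
    | mul y z _ _ h1 h2 => rw [← mul_assoc, h1, mul_assoc, h2, ← mul_assoc]
  · induction hx using Subring.closure_induction with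
    | mem z hz =>
      obtain ⟨m, hm, rfl⟩ := hz
      rw [← map_mul, ← map_mul]
      exact Subring.subset_closure ⟨_, hn.conj_mem m hm a, rfl⟩
    | zero => simp
    | one => simp [← map_mul]
    | add y z _ _ h1 h2 => rw [mul_add, add_mul]; exact add_mem h1 h2
    | neg y _ h1 => rw [mul_neg, neg_mul]; exact neg_mem h1
    | mul y z _ _ h1 h2 =>
      have e : rho a * (y * z) * rho a⁻¹ = (rho a * y * rho a⁻¹) * (rho a * z * rho a⁻¹ : AddMonoid.End V) := by
        have : (rho a⁻¹ * rho a : AddMonoid.End V) = 1 := by rw [← map_mul, inv_mul_cancel, map_one]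
        simp only [mul_assoc]
        rw [← mul_assoc (rho a⁻¹) (rho a), this, one_mul]
      rw [e]
      exact mul_mem h1 h2

variable {R : Subring (AddMonoid.End V)}

/-- A minimal non-zero idempotent. -/
def IsAtomIdem (R : Subring (AddMonoid.End V)) (e : AddMonoid.End V) : Prop :=
  e ∈ R ∧ e ≠ 0 ∧ e * e = e ∧ ∀ f ∈ R, f * f = f → f * e = f → f = 0 ∨ f = e

theorem conj_mul (a : A) (x y : AddMonoid.End V) :
    (rho a * x * rho a⁻¹) * (rho a * y * rho a⁻¹) = rho a * (x * y) * rho a⁻¹ := by
  have : (rho a⁻¹ * rho a : AddMonoid.End V) = 1 := by rw [← map_mul, inv_mul_cancel, map_one]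
  simp only [mul_assoc]
  rw [← mul_assoc (rho a⁻¹) (rho a), this, one_mul]

theorem conj_conj (a b : A) (x : AddMonoid.End V) :
    rho a * (rho b * x * rho b⁻¹) * rho a⁻¹ = rho (a * b) * x * rho (a * b)⁻¹ := by
  rw [mul_inv_rev, map_mul, map_mul]
  simp only [mul_assoc]

theorem conj_eq_zero {a : A} {x : AddMonoid.End V} (h : rho a * x * rho a⁻¹ = 0) : x = 0 := by
  have := congrArg (fun y : AddMonoid.End V => rho a⁻¹ * y * rho a⁻¹⁻¹) h
  simpa only [conj_conj, inv_mul_cancel, inv_one, map_one, one_mul, mul_one, mul_zero, zero_mul] using this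

theorem InvRing.atom_conj (hR : InvRing A R) (a : A) {e : AddMonoid.End V} (he : IsAtomIdem R e) :
    IsAtomIdem R (rho a * e * rho a⁻¹) := by
  refine ⟨hR.inv a e he.1, fun h => he.2.1 (conj_eq_zero h), by rw [conj_mul, he.2.2.1], fun f hf hff hfe => ?_⟩
  have h1 : rho a⁻¹ * (rho a * e * rho a⁻¹) * rho a⁻¹⁻¹ = e := by
    rw [conj_conj, inv_mul_cancel]; simp
  rcases he.2.2.2 _ (hR.inv a⁻¹ f hf) (by rw [conj_mul, hff]) (by conv_lhs => rw [← h1, conj_mul, hfe]) with h | h
  · exact Or.inl (conj_eq_zero h)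
  · refine Or.inr ?_
    rw [← h, conj_conj, mul_inv_cancel]
    simp

variable [Finite V]

instance instFiniteEnd : Finite (AddMonoid.End V) :=
  Finite.of_injective (fun f : AddMonoid.End V => (f : V → V)) DFunLike.coe_injective

theorem exists_atom (hR : ∀ x ∈ R, ∀ y ∈ R, x * y = y * x) : ∀ (m : ℕ) (e : AddMonoid.End V), e ∈ R → e ≠ 0 →
    e * e = e → Nat.card (Set.range e) ≤ m → ∃ f, IsAtomIdem R f ∧ f * e = f := by
  intro m
  induction m with
  | zero =>
    intro e _ _ _ h
    haveI : Nonempty (Set.range e) := ⟨⟨e 0, 0, rfl⟩⟩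
    exact absurd h (Nat.not_le.mpr Nat.card_pos)
  | succ m ih =>
    intro e heR he hee hcard
    by_cases hat : ∀ f ∈ R, f * f = f → f * e = f → f = 0 ∨ f = e
    · exact ⟨e, ⟨heR, he, hee, hat⟩, hee⟩
    push Not at hat
    obtain ⟨f, hfR, hff, hfe, hf0, hfne⟩ := hat
    have hef : e * f = f := by rw [hR e heR f hfR, hfe]
    have hsub : Set.range f ⊆ Set.range e := by
      rintro _ ⟨x, rfl⟩
      exact ⟨f x, DFunLike.congr_fun hef x⟩
    have hne : Set.range f ≠ Set.range e := fun h => hfne (DFunLike.ext _ _ fun x => by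
      obtain ⟨y, hy⟩ := h.ge ⟨x, rfl⟩
      have h1 : f (e x) = f x := DFunLike.congr_fun hfe x
      have h2 : f (f y) = f y := DFunLike.congr_fun hff y
      rw [hy] at h2
      rw [← h1, h2])
    have hlt := Set.ncard_lt_ncard (lt_of_le_of_ne hsub hne : Set.range f < Set.range e)
    rw [← Nat.card_coe_set_eq, ← Nat.card_coe_set_eq] at hlt
    obtain ⟨g, hg, hgf⟩ := ih f hfR hf0 hff (by omega)
    exact ⟨g, hg, by rw [← hgf, mul_assoc, hfe]⟩

/-- The atoms. -/
abbrev Atom (R : Subring (AddMonoid.End V)) : Type u := {e : AddMonoid.End V // IsAtomIdem R e}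

omit [Finite V] in
theorem atom_orth (hR : ∀ x ∈ R, ∀ y ∈ R, x * y = y * x) {e f : Atom R} (h : e ≠ f) : e.1 * f.1 = 0 := by
  have hc := hR e.1 e.2.1 f.1 f.2.1
  have hi : e.1 * f.1 * (e.1 * f.1) = e.1 * f.1 := by
    rw [mul_assoc, ← mul_assoc f.1, ← hc, mul_assoc e.1 f.1 f.1, f.2.2.2.1, ← mul_assoc, e.2.2.2.1]
  have he : e.1 * f.1 * e.1 = e.1 * f.1 := by rw [hc, mul_assoc, e.2.2.2.1]
  have hf : e.1 * f.1 * f.1 = e.1 * f.1 := by rw [mul_assoc, f.2.2.2.1]
  rcases e.2.2.2.2 _ (mul_mem e.2.1 f.2.1) hi he with h1 | h1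
  · exact h1
  rcases f.2.2.2.2 _ (mul_mem e.2.1 f.2.1) hi hf with h2 | h2
  · exact h2
  · exact absurd (Subtype.ext (h1.symm.trans h2)) h

/-- The atoms sum to one. -/
theorem sum_atoms (hR : ∀ x ∈ R, ∀ y ∈ R, x * y = y * x) [Fintype (Atom R)] :
    ∑ e : Atom R, e.1 = 1 := by
  classical
  set s := ∑ e : Atom R, e.1
  have hsR : s ∈ R := sum_mem fun e _ => e.2.1
  have hes : ∀ e : Atom R, e.1 * s = e.1 := fun e => by
    rw [Finset.mul_sum, Finset.sum_eq_single e (fun f _ hf => atom_orth hR (Ne.symm hf)) (by simp), e.2.2.2.1]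
  have hss : s * s = s := by
    rw [Finset.sum_mul]
    exact Finset.sum_congr rfl fun e _ => hes e
  by_contra hne
  obtain ⟨f, hf, hfs⟩ := exists_atom hR _ (1 - s) (sub_mem (one_mem R) hsR) (sub_ne_zero.mpr (Ne.symm hne))
    (by rw [sub_mul, one_mul, mul_sub, mul_one, hss, sub_self, sub_zero]) le_rfl
  rw [mul_sub, mul_one, hes ⟨f, hf⟩, sub_self] at hfs
  exact hf.2.1 hfs.symm

variable [Finite A]

/-- Pairs built block by block. -/
theorem blocks_pair (hodd : Odd (Nat.card A)) (hirr : Irr A V) (ih : IH.{u} (Nat.card A)) (hR : InvRing A R)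
    {e₁ : AddMonoid.End V} (he₁ : e₁ ∈ R) (hee : e₁ * e₁ = e₁) (h0 : e₁ ≠ 0) (h1 : e₁ ≠ 1) : Pair A V := by
  classical
  letI : MulAction A (Atom R) :=
    { smul := fun a e => ⟨rho a * e.1 * rho a⁻¹, hR.atom_conj a e.2⟩
      one_smul := fun e => Subtype.ext (show rho (1 : A) * e.1 * rho (1 : A)⁻¹ = e.1 by simp)
      mul_smul := fun a b e => Subtype.ext (conj_conj a b e.1).symm }
  have hsmul : ∀ (a : A) (e : Atom R) (x : V), (a • e).1 (a • x) = a • e.1 x := fun a e x => by
    show a • (e.1 (a⁻¹ • a • x)) = _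
    rw [inv_smul_smul]
  haveI : Fintype (Atom R) := Fintype.ofFinite _
  obtain ⟨a₀, ha₀, ha₀e⟩ := exists_atom hR.comm _ e₁ he₁ h0 hee le_rfl
  let e : Atom R := ⟨a₀, ha₀⟩
  have horth : ∀ {f g : Atom R}, f ≠ g → ∀ x, f.1 (g.1 x) = 0 := fun h x =>
    DFunLike.congr_fun (atom_orth hR.comm h) x
  have hidem : ∀ (f : Atom R) (x : V), f.1 (f.1 x) = f.1 x := fun f x => DFunLike.congr_fun f.2.2.2.1 x
  have hsum : ∀ x : V, ∑ f : Atom R, f.1 x = x := fun x => by
    exact (map_sum (AddMonoidHom.eval x : (V →+ V) →+ V) (fun f : Atom R => (f.1 : V →+ V)) Finset.univ).symm.trans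
      (DFunLike.congr_fun (sum_atoms hR.comm) x)
  haveI : IsPretransitive A (Atom R) := by
    have key : ∀ f : Atom R, f ∈ orbit A e := fun f => by
      by_contra hf
      let U : AddSubgroup V := ⨅ g ∈ {g : Atom R | g ∉ orbit A e}, (AddMonoidHom.ker (g.1 : V →+ V))
      have hU : ∀ x, x ∈ U ↔ ∀ g : Atom R, g ∉ orbit A e → g.1 x = 0 := fun x => by
        simp only [U, AddSubgroup.mem_iInf]
        exact ⟨fun h g hg => h g hg, fun h g hg => h g hg⟩
      rcases hirr.2 U (fun a x hx => (hU _).mpr fun g hg => by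
        rw [← smul_inv_smul a g, hsmul, (hU x).mp hx _ (fun h => hg (by
          rw [← smul_inv_smul a g, ← orbit_eq_iff, orbit_smul, orbit_eq_iff]; exact h)), smul_zero]) with h | h
      · refine e.2.2.1 (DFunLike.ext _ _ fun x => ?_)
        have : e.1 x ∈ U := (hU _).mpr fun g hg => horth (fun h' => hg (by rw [h']; exact mem_orbit_self e)) x
        rw [h, AddSubgroup.mem_bot] at this
        exact this
      · exact f.2.2.1 (DFunLike.ext _ _ fun x => (hU x).mp (h.ge trivial) f hf)
    refine ⟨fun f g => ?_⟩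
    obtain ⟨a, rfl⟩ := key f
    obtain ⟨b, rfl⟩ := key g
    exact ⟨b * a⁻¹, by rw [mul_smul, inv_smul_smul]⟩
  let H := stabilizer A e
  have hlt : Nat.card H < Nat.card A := by
    refine lt_of_le_of_ne (Subgroup.card_le_card_group _) fun h => ?_
    have htop := Subgroup.eq_top_of_card_eq _ h
    have hall : ∀ f : Atom R, f = e := fun f => by
      obtain ⟨a, rfl⟩ := exists_smul_eq A e f
      exact mem_stabilizer_iff.mp (htop.ge (Subgroup.mem_top a))
    have he1 : e.1 = 1 := by
      rw [← sum_atoms hR.comm, Finset.sum_eq_single e (fun f _ hf => absurd (hall f) hf) (by simp)]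
    rcases e.2.2.2.2 e₁ he₁ hee (by rw [he1, mul_one]) with h | h
    · exact h0 h
    · exact h1 (h.trans he1)
  -- the module of the block
  let W : AddSubgroup V :=
    { carrier := {x | e.1 x = x}
      zero_mem' := map_zero e.1
      add_mem' := fun {x y} hx hy => by
        show e.1 (x + y) = x + y
        rw [map_add, show e.1 x = x from hx, show e.1 y = y from hy]
      neg_mem' := fun {x} hx => by
        show e.1 (-x) = -x
        rw [map_neg, show e.1 x = x from hx] }
  have hHW : ∀ (a : H) (x : V), x ∈ W → (a : A) • x ∈ W := fun a x (hx : e.1 x = x) => by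
    show e.1 ((a : A) • x) = (a : A) • x
    conv_lhs => rw [← mem_stabilizer_iff.mp a.2, hsmul, hx]
  letI : DistribMulAction H W :=
    { smul := fun a x => ⟨(a : A) • (x : V), hHW a x x.2⟩
      one_smul := fun x => Subtype.ext (one_smul A (x : V))
      mul_smul := fun a b x => Subtype.ext (mul_smul (a : A) b (x : V))
      smul_zero := fun a => Subtype.ext (smul_zero (a : A))
      smul_add := fun a x y => Subtype.ext (smul_add (a : A) (x : V) y) }
  have hWne : ∃ x : W, x ≠ 0 := by
    obtain ⟨x, hx⟩ : ∃ x, e.1 x ≠ 0 := by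
      by_contra h
      push Not at h
      exact e.2.2.1 (DFunLike.ext _ _ h)
    exact ⟨⟨e.1 x, hidem e x⟩, fun h => hx (congrArg Subtype.val h)⟩
  have hWirr : Irr H W := by
    refine ⟨hWne, fun U hU => ?_⟩
    by_cases hU0 : U = ⊥
    · exact Or.inl hU0
    refine Or.inr (eq_top_iff.mpr fun x _ => ?_)
    let T : AddSubgroup V := AddSubgroup.closure {y | ∃ (a : A) (u : W), u ∈ U ∧ y = a • (u : V)}
    rcases hirr.2 T (fun a y hy => by
      induction hy using AddSubgroup.closure_induction with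
      | mem z hz =>
        obtain ⟨b, u, hu, rfl⟩ := hz
        exact AddSubgroup.subset_closure ⟨a * b, u, hu, (mul_smul a b _).symm⟩
      | zero => rw [smul_zero]; exact zero_mem _
      | add y z _ _ h1 h2 => rw [smul_add]; exact add_mem h1 h2
      | neg y _ h1 => rw [smul_neg]; exact neg_mem h1) with h | h
    · exfalso
      refine hU0 (eq_bot_iff.mpr fun u hu => Subtype.ext ?_)
      have : (u : V) ∈ T := AddSubgroup.subset_closure ⟨1, u, hu, (one_smul A _).symm⟩
      rw [h, AddSubgroup.mem_bot] at this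
      exact this
    · have key : ∀ y ∈ T, ∃ u ∈ U, (u : V) = e.1 y := fun y hy => by
        induction hy using AddSubgroup.closure_induction with
        | mem z hz =>
          obtain ⟨b, u, hu, rfl⟩ := hz
          by_cases hb : b • e = e
          · exact ⟨(⟨b, hb⟩ : H) • u, hU _ u hu, (hHW ⟨b, hb⟩ u u.2).symm⟩
          · refine ⟨0, zero_mem _, ?_⟩
            have : (b • e).1 (b • (u : V)) = b • (u : V) := by rw [hsmul]; exact congrArg (b • ·) u.2
            rw [← this, horth (Ne.symm hb)]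
            rfl
        | zero => exact ⟨0, zero_mem _, (map_zero _).symm⟩
        | add y z _ _ h1 h2 =>
          obtain ⟨u, hu, h1⟩ := h1
          obtain ⟨v, hv, h2⟩ := h2
          exact ⟨u + v, add_mem hu hv, by rw [map_add, ← h1, ← h2]; rfl⟩
        | neg y _ h1 =>
          obtain ⟨u, hu, h1⟩ := h1
          exact ⟨-u, neg_mem hu, by rw [map_neg, ← h1]; rfl⟩
      obtain ⟨u, hu, hux⟩ := key x (h.ge trivial)
      exact (Subtype.ext (hux.trans x.2) : u = x) ▸ hu
  have hoddH : Odd (Nat.card H) := hodd.of_dvd_nat (Subgroup.card_subgroup_dvd_card _)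
  obtain ⟨v, w, hvw⟩ := ih H W hlt hoddH hWirr.cr
  -- two inequivalent pairs
  obtain ⟨P, hP, hPne⟩ : ∃ P : Bool → W × W,
      (∀ (b : Bool) (a : H), a • (P b).1 = (P b).1 → a • (P b).2 = (P b).2 → ∀ x : W, a • x = x) ∧
      ∀ (b c : Bool) (a : H), a • (P b).1 = (P c).1 → a • (P b).2 = (P c).2 → b = c := by
    suffices hs : ∃ p q : W × W, (∀ a : H, a • p.1 = p.1 → a • p.2 = p.2 → ∀ x : W, a • x = x) ∧
        (∀ a : H, a • q.1 = q.1 → a • q.2 = q.2 → ∀ x : W, a • x = x) ∧
        (∀ a : H, a • p.1 = q.1 → a • p.2 = q.2 → False) by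
      obtain ⟨p, q, hp, hq, hne⟩ := hs
      refine ⟨fun b => if b then p else q, fun b => by cases b <;> assumption, fun b c a h1 h2 => ?_⟩
      cases b <;> cases c <;> simp only [Bool.false_eq_true, if_true, if_false] at h1 h2
      · rfl
      · exact (hne a⁻¹ (by rw [← h1, inv_smul_smul]) (by rw [← h2, inv_smul_smul])).elim
      · exact (hne a h1 h2).elim
      · rfl
    by_cases hvw' : v = w
    · subst hvw'
      by_cases hv0 : v = 0
      · obtain ⟨x, hx⟩ := hWne
        subst hv0
        have htriv : ∀ a : H, ∀ y : W, a • y = y := fun a => hvw a (smul_zero a) (smul_zero a)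
        exact ⟨(0, 0), (x, x), fun a _ _ => htriv a, fun a _ _ => htriv a,
          fun a h _ => hx (h.symm.trans (smul_zero a))⟩
      · exact ⟨(v, v), (v, 0), fun a h h' => hvw a h h', fun a h _ => hvw a h h,
          fun a _ h2 => hv0 (by rw [← inv_smul_smul a v, show a • v = 0 from h2, smul_zero])⟩
    · refine ⟨(v, w), (w, v), fun a h h' => hvw a h h', fun a h h' => hvw a h' h, fun a h1 h2 => hvw' ?_⟩
      simp only at h1 h2
      have h3 : a • v = v := smul_eq_of_sq hoddH (by rw [h1, h2])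
      exact h3.symm.trans h1
  obtain ⟨S, hS⟩ := coloured_of_IH ih _ A (Atom R) rfl le_rfl hodd
  choose t ht using fun f : Atom R => exists_smul_eq A e f
  let x₁ : Atom R → V := fun f => t f • ((P (decide (f ∈ S))).1 : V)
  let x₂ : Atom R → V := fun f => t f • ((P (decide (f ∈ S))).2 : V)
  have hproj : ∀ (x : Atom R → W) (f : Atom R), f.1 (∑ g, t g • (x g : V)) = t f • (x f : V) := fun x f => by
    have hg : ∀ g, g.1 (t g • (x g : V)) = t g • (x g : V) := fun g => by
      conv_lhs => rw [show g.1 = (t g • e).1 by rw [ht], hsmul, show e.1 (x g : V) = x g from (x g).2]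
    rw [map_sum, Finset.sum_eq_single f (fun g _ hg' => by rw [← hg g, horth (Ne.symm hg')]) (by simp), hg]
  refine ⟨∑ g, x₁ g, ∑ g, x₂ g, fun a hv hw x => ?_⟩
  have hh : ∀ f, (t (a • f))⁻¹ * a * t f ∈ H := fun f => by
    rw [mem_stabilizer_iff, mul_smul, mul_smul, ht, inv_smul_eq_iff, ht]
  have hmap : ∀ (y : Atom R → W), a • (∑ g, t g • (y g : V)) = ∑ g, t g • (y g : V) →
      ∀ f, (⟨_, hh f⟩ : H) • y f = y (a • f) := fun y hy f => Subtype.ext (by
    show ((t (a • f))⁻¹ * a * t f) • (y f : V) = _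
    rw [mul_smul, mul_smul, inv_smul_eq_iff, ← hproj y f, ← hsmul, hy, hproj y])
  have hfix : ∀ f, (a • f ∈ S ↔ f ∈ S) := fun f => by
    have := hPne _ _ _ (hmap (fun g => (P (decide (g ∈ S))).1) hv f) (hmap (fun g => (P (decide (g ∈ S))).2) hw f)
    simpa [decide_eq_decide] using this.symm
  have hfixf : ∀ f, a • f = f := hS a hfix
  rw [← hsum x, Finset.smul_sum]
  refine Finset.sum_congr rfl fun f _ => ?_
  have h1 := hmap (fun g => (P (decide (g ∈ S))).1) hv f
  have h2 := hmap (fun g => (P (decide (g ∈ S))).2) hw f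
  simp only [hfixf f] at h1 h2
  have hk : (t f)⁻¹ • f.1 x ∈ W := by
    show e.1 _ = _
    have := hsmul (t f) e ((t f)⁻¹ • f.1 x)
    rw [ht, smul_inv_smul, hidem] at this
    rw [eq_inv_smul_iff]
    exact this.symm
  have h3 := congrArg Subtype.val (hP _ _ h1 h2 ⟨_, hk⟩)
  change ((t f)⁻¹ * a * t f) • (t f)⁻¹ • f.1 x = (t f)⁻¹ • f.1 x at h3
  rw [mul_smul, mul_smul, smul_inv_smul] at h3
  exact smul_left_cancel _ h3

omit [Finite A] in
/-- Without idempotents the ring is a field. -/
theorem isField_of_no_idem (hirr : Irr A V) (hR : InvRing A R)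
    (hno : ∀ e ∈ R, e * e = e → e = 0 ∨ e = 1) : IsField R := by
  haveI : Finite R := inferInstance
  obtain ⟨x₀, hx₀⟩ := hirr.1
  have h10 : (1 : AddMonoid.End V) ≠ 0 := fun h => hx₀ (DFunLike.congr_fun h x₀)
  refine ⟨⟨0, 1, fun h => h10 (congrArg Subtype.val h).symm⟩, fun x y => Subtype.ext (hR.comm x x.2 y y.2),
    fun {x} hx => ?_⟩
  obtain ⟨k, hk, hidem⟩ : ∃ k, 0 < k ∧ IsIdempotentElem (x.1 ^ k) := by
    obtain ⟨m, n, hne, hmn⟩ := Finite.exists_ne_map_eq_of_infinite (fun n : ℕ => x.1 ^ n)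
    wlog hlt : m < n generalizing m n
    · exact this n m hne.symm hmn.symm (by omega)
    replace hmn : x.1 ^ m = x.1 ^ n := hmn
    have hper : ∀ j i, m ≤ i → x.1 ^ (i + j * (n - m)) = x.1 ^ i := fun j => by
      induction j with
      | zero => simp
      | succ j ihj =>
        intro i hi
        rw [show i + (j + 1) * (n - m) = (i + (n - m)) + j * (n - m) by ring, ihj _ (by omega),
          show i + (n - m) = n + (i - m) by omega, pow_add, ← hmn, ← pow_add, show m + (i - m) = i by omega]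
    refine ⟨(m + 1) * (n - m), Nat.mul_pos (by omega) (by omega), ?_⟩
    rw [IsIdempotentElem, ← pow_add]
    exact hper (m + 1) _ (le_trans (Nat.le_succ m) (Nat.le_mul_of_pos_right _ (by omega)))
  rcases hno _ (pow_mem x.2 k) hidem with h | h
  · exfalso
    -- nilpotent elements kill a non-zero invariant subgroup
    let U : AddSubgroup V := ⨅ y ∈ {y : AddMonoid.End V | y ∈ R ∧ IsNilpotent y}, AddMonoidHom.ker (y : V →+ V)
    have hU : ∀ v, v ∈ U ↔ ∀ y, y ∈ R → IsNilpotent y → (y : AddMonoid.End V) v = 0 := fun v => by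
      simp only [U, AddSubgroup.mem_iInf]
      exact ⟨fun h' y h1 h2 => h' y ⟨h1, h2⟩, fun h' y hy => h' y hy.1 hy.2⟩
    rcases hirr.2 U (fun a v hv => (hU _).mpr fun y hy hny => by
      have h1 := (hU v).mp hv _ (hR.inv a⁻¹ y hy) (by
        obtain ⟨j, hj⟩ := hny
        refine ⟨j + 1, ?_⟩
        have : ∀ i, (rho a⁻¹ * y * rho a⁻¹⁻¹ : AddMonoid.End V) ^ (i + 1) = rho a⁻¹ * y ^ (i + 1) * rho a⁻¹⁻¹ := fun i => by
          induction i with
          | zero => simp
          | succ i ihi => rw [pow_succ, ihi, conj_mul, ← pow_succ]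
        rw [this, pow_succ, hj]; simp)
      change a⁻¹ • (y (a⁻¹⁻¹ • v)) = 0 at h1
      rwa [inv_inv, inv_smul_eq_iff, smul_zero] at h1) with h' | h'
    · -- a common kernel vector
      have key : ∀ (s : Finset (AddMonoid.End V)), (∀ y ∈ s, y ∈ R ∧ IsNilpotent y) →
          ∃ v : V, v ≠ 0 ∧ ∀ y ∈ s, y v = 0 := by
        classical
        intro s
        induction s using Finset.induction_on with
        | empty => exact fun _ => ⟨x₀, hx₀, by simp⟩
        | @insert y s hy ihs =>
          intro hs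
          obtain ⟨v, hv0, hv⟩ := ihs fun z hz => hs z (Finset.mem_insert_of_mem hz)
          obtain ⟨hyR, j, hj⟩ := hs y (Finset.mem_insert_self _ _)
          have hex : ∃ i, (y ^ i) v = 0 := ⟨j, by rw [hj]; rfl⟩
          have hi : Nat.find hex ≠ 0 := fun h => hv0 (by
            have := Nat.find_spec hex
            rw [h, pow_zero] at this
            exact this)
          refine ⟨(y ^ (Nat.find hex - 1)) v, Nat.find_min hex (by omega), fun z hz => ?_⟩
          rcases Finset.mem_insert.mp hz with rfl | hz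
          · have := Nat.find_spec hex
            rwa [show Nat.find hex = (Nat.find hex - 1) + 1 by omega, pow_succ'] at this
          · show (z * y ^ (Nat.find hex - 1)) v = 0
            rw [hR.comm z (hs z (Finset.mem_insert_of_mem hz)).1 _ (pow_mem hyR _)]
            show (y ^ (Nat.find hex - 1)) (z v) = 0
            rw [hv z hz, map_zero]
      haveI : Fintype (AddMonoid.End V) := Fintype.ofFinite _
      classical
      obtain ⟨v, hv0, hv⟩ := key (Finset.univ.filter fun y => y ∈ R ∧ IsNilpotent y) (by simp)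
      have : v ∈ U := (hU v).mpr fun y hy hny => hv y (by simp [hy, hny])
      rw [h', AddSubgroup.mem_bot] at this
      exact hv0 this
    · exact hx (Subtype.ext (DFunLike.ext _ _ fun v => (hU v).mp (h'.ge trivial) x.1 x.2 ⟨k, h⟩))
  · exact ⟨x ^ (k - 1), Subtype.ext (by
      rw [Subring.coe_mul, SubmonoidClass.coe_pow, ← pow_succ', Nat.sub_add_cancel hk, h]; rfl)⟩

end CfsgLib.OddBase
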