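import Mathlib

/-!
Numerical inequalities for the counting argument.
-/

set_option autoImplicit false

namespace CfsgLib.OddBase

theorem pow_six_lt : ∀ e : ℕ, 3 ≤ e → e ^ 6 < 4 ^ (4 * e - 6) := by
  intro e he
  induction e, he using Nat.le_induction with
  | base => norm_num
  | succ e he ih =>
    calc (e + 1) ^ 6 ≤ (2 * e) ^ 6 := Nat.pow_le_pow_left (by omega) 6
      _ = 64 * e ^ 6 := by ring
      _ < 256 * 4 ^ (4 * e - 6) := by omega
      _ = 4 ^ (4 * (e + 1) - 6) := by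
        rw [show 4 * (e + 1) - 6 = (4 * e - 6) + 4 by omega, pow_add]
        ring

theorem h_one_bound {Q e : ℕ} (hQ : 4 ≤ Q) (he : 3 ≤ e) : (Q * Q * (e * e)) ^ 3 < (Q ^ e) ^ 4 := by
  have h1 : e ^ 6 < Q ^ (4 * e - 6) := (pow_six_lt e he).trans_le (Nat.pow_le_pow_left hQ _)
  calc (Q * Q * (e * e)) ^ 3 = Q ^ 6 * e ^ 6 := by ring
    _ < Q ^ 6 * Q ^ (4 * e - 6) := Nat.mul_lt_mul_of_pos_left h1 (pow_pos (by omega) 6)
    _ = (Q ^ e) ^ 4 := by rw [← pow_add, ← pow_mul]; congr 1; omega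

theorem step_bound (k : ℕ) (a b c : ℕ) (h3 : b ≤ k * a) (ih : 64 * a < c) : 64 * b ≤ k * (64 * a) ∧ (0 < k → k * (64 * a) < k * c) :=
  ⟨(Nat.mul_le_mul_left 64 h3).trans (le_of_eq (by ring)), fun hk => Nat.mul_lt_mul_of_pos_left ih hk⟩

theorem pow_ratio {a b n k : ℕ} (x y : ℕ) (h : a * x ≤ b * y) (hk : b ^ n ≤ k * a ^ n) (ha : 0 < a ^ n) :
    x ^ n ≤ k * y ^ n := by
  suffices h' : a ^ n * x ^ n ≤ a ^ n * (k * y ^ n) from Nat.le_of_mul_le_mul_left h' ha
  calc a ^ n * x ^ n = (a * x) ^ n := (mul_pow a x n).symm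
    _ ≤ (b * y) ^ n := Nat.pow_le_pow_left h n
    _ = b ^ n * y ^ n := mul_pow b y n
    _ ≤ k * a ^ n * y ^ n := Nat.mul_le_mul_right _ hk
    _ = a ^ n * (k * y ^ n) := by ring

theorem large_bound : ∀ e : ℕ, 27 ≤ e → 64 * e ^ 18 < 4 ^ (2 * e) := by
  intro e he
  induction e, he using Nat.le_induction with
  | base => norm_num
  | succ e he ih =>
    have h3 : (e + 1) ^ 18 ≤ 16 * e ^ 18 :=
      pow_ratio (a := 27) (b := 28) (n := 18) (k := 16) (e + 1) e (by omega) (by norm_num) (by norm_num)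
    obtain ⟨s1, s2⟩ := step_bound 16 (e ^ 18) ((e + 1) ^ 18) (4 ^ (2 * e)) h3 ih
    refine lt_of_le_of_lt s1 ((s2 (by norm_num)).trans_le (le_of_eq ?_))
    rw [show 2 * (e + 1) = 2 * e + 2 by omega, pow_add, mul_comm]
    norm_num

/-- The key inequality for odd indices at least eleven. -/
theorem key_big {Q e : ℕ} (he : 11 ≤ e) (hodd : Odd e) (hQ : 4 ≤ Q) (hs : ∀ s : ℕ, s.Prime → s ∣ e → s < Q) :
    64 * e ^ 18 < Q ^ (2 * e) := by
  have key : ∀ m, m ≤ Q → 64 * e ^ 18 < m ^ (2 * e) → 64 * e ^ 18 < Q ^ (2 * e) := fun m hm h =>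
    h.trans_le (Nat.pow_le_pow_left hm _)
  by_cases hbig : 27 ≤ e
  · exact key 4 hQ (large_bound e hbig)
  obtain ⟨k, rfl⟩ := hodd
  have hk1 : 5 ≤ k := by omega
  have hk2 : k ≤ 12 := by omega
  interval_cases k
  · exact key 12 (hs 11 (by norm_num) (by norm_num)) (by norm_num)
  · exact key 14 (hs 13 (by norm_num) (by norm_num)) (by norm_num)
  · exact key 6 (hs 5 (by norm_num) (by norm_num)) (by norm_num)
  · exact key 18 (hs 17 (by norm_num) (by norm_num)) (by norm_num)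
  · exact key 20 (hs 19 (by norm_num) (by norm_num)) (by norm_num)
  · exact key 8 (hs 7 (by norm_num) (by norm_num)) (by norm_num)
  · exact key 24 (hs 23 (by norm_num) (by norm_num)) (by norm_num)
  · exact key 6 (hs 5 (by norm_num) (by norm_num)) (by norm_num)

/-- Cube comparison. -/
theorem lt_of_cubes {a b : ℕ} (h : a ^ 3 < b ^ 3) : a < b := (Nat.pow_lt_pow_iff_left (by norm_num)).mp h

end CfsgLib.OddBase
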