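import Cfsg.Agent.Lib.OddBase.Small
import Cfsg.Agent.Lib.OddBase.Arith

/-!
Completely reducible groups of odd order have two vectors with trivial common stabilizer.
-/

set_option autoImplicit false

namespace CfsgLib.OddBase

open Subgroup
open scoped commutatorElement

universe u

variable {A V : Type u} [Group A] [Finite A] [AddCommGroup V] [Finite V] [DistribMulAction A V]
  {Z F L : Subgroup A}

/-- The subgroup as part of the field. -/
def zeta (Z : Subgroup A) : Z →* genRing (V := V) Z where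
  toFun z := ⟨rho (z : A), rho_mem z.2⟩
  map_one' := Subtype.ext (map_one rho)
  map_mul' a b := Subtype.ext (map_mul rho (a : A) (b : A))

omit [Finite A] [Finite V] in
theorem zeta_injective (h : Setup A V Z) : Function.Injective (zeta (V := V) Z) :=
  fun _ _ e => Subtype.ext (h.rho_inj (congrArg Subtype.val e))

omit [Finite A] in
theorem card_lt_field (h : Setup A V Z) : Nat.card Z < Nat.card (genRing (V := V) Z) := by
  letI := h.field.toField
  refine lt_of_le_of_ne (Nat.card_le_card_of_injective _ (zeta_injective h)) fun e => ?_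
  haveI : Finite Z := Finite.of_injective _ (zeta_injective h)
  obtain ⟨z, hz⟩ := ((Nat.bijective_iff_injective_and_card _).mpr ⟨zeta_injective h, e⟩).2 0
  have h1 : zeta (V := V) Z z * zeta (V := V) Z z⁻¹ = 1 := by rw [← map_mul, mul_inv_cancel, map_one]
  rw [hz, zero_mul] at h1
  exact zero_ne_one h1

theorem exists_gen (h : Setup A V Z) : ∃ z₀ ∈ Z, Z ≤ zpowers z₀ := by
  letI := h.field.toField
  letI : CommGroup Z := { (inferInstance : Group Z) with mul_comm := fun x y => Subtype.ext (h.comm x x.2 y y.2) }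
  let f : Z →* genRing (V := V) Z :=
    { toFun := fun z => zeta (V := V) Z z, map_one' := map_one (zeta (V := V) Z), map_mul' := map_mul (zeta (V := V) Z) }
  haveI : IsCyclic Z := isCyclic_of_injective_ringHom f (zeta_injective h)
  obtain ⟨z₀, hz₀⟩ := IsCyclic.exists_generator (α := Z)
  exact ⟨z₀, z₀.2, fun z hz => by
    obtain ⟨m, hm⟩ := mem_zpowers_iff.mp (hz₀ ⟨z, hz⟩)
    exact ⟨m, congrArg Subtype.val hm⟩⟩

omit [Finite V] in
theorem mem_cent_of_gen {z₀ g : A} (hgen : Z ≤ zpowers z₀) (hg : g * z₀ * g⁻¹ = z₀) : g ∈ centralizer (Z : Set A) :=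
  Subgroup.mem_centralizer_iff.mpr fun z hz => by
    obtain ⟨m, rfl⟩ := mem_zpowers_iff.mp (hgen hz)
    exact ((show Commute g z₀ from mul_inv_eq_iff_eq_mul.mp hg).zpow_right m).eq.symm

theorem card_le_mul (h : Setup A V Z) :
    Nat.card A ≤ Nat.card Z * Nat.card (centralizer (Z : Set A)) := by
  haveI := h.normal
  obtain ⟨z₀, hz₀, hgen⟩ := exists_gen h
  let C := centralizer (Z : Set A)
  have : Nat.card (A ⧸ C) ≤ Nat.card Z := by
    refine Nat.card_le_card_of_injective (fun q => (⟨q.out * z₀ * q.out⁻¹, h.normal.conj_mem _ hz₀ _⟩ : Z)) fun p q e => ?_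
    have e' : p.out * z₀ * p.out⁻¹ = q.out * z₀ * q.out⁻¹ := congrArg Subtype.val e
    rw [← Quotient.out_eq p, ← Quotient.out_eq q]
    refine (QuotientGroup.eq (s := C)).mpr (mem_cent_of_gen hgen ?_)
    calc p.out⁻¹ * q.out * z₀ * (p.out⁻¹ * q.out)⁻¹ = p.out⁻¹ * (q.out * z₀ * q.out⁻¹) * p.out := by group
      _ = z₀ := by rw [← e']; group
  calc Nat.card A = Nat.card (A ⧸ C) * Nat.card C := C.card_eq_card_quotient_mul_card_subgroup
    _ ≤ _ := Nat.mul_le_mul_right _ this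

/-- No linear element of order thirteen on a section of order `81`. -/
theorem no13 [Z.Normal] [F.Normal] (hf : Frame A V Z F L) (hw : Z.relIndex F = 81) (he : ∀ x ∈ F, x ^ 3 ∈ Z)
    {g : A} (hg : g ∈ centralizer (Z : Set A)) : orderOf (phi Z F g) ≠ 13 := by
  classical
  intro hord
  letI := sectionComm hf
  haveI : Fact (Nat.Prime 13) := ⟨by norm_num⟩
  set G : MulAut (F ⧸ Z.subgroupOf F) := phi Z F g
  have hW : Nat.card (F ⧸ Z.subgroupOf F) = 81 := hw
  have h1 := card_fix_modEq hord ⊤ (fun x _ => trivial)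
  rw [Subgroup.card_top, hW, Nat.card_congr (Equiv.subtypeEquivRight (q := fun x => x ∈ fixSub G)
    fun x => ⟨fun h => h.2, fun h => ⟨trivial, h⟩⟩)] at h1
  have hU : Nat.card (fixSub G) = 3 := by
    obtain ⟨j, hj, hj'⟩ := (Nat.dvd_prime_pow (by norm_num : Nat.Prime 3)).mp
      (show Nat.card (fixSub G) ∣ 3 ^ 4 by rw [show 3 ^ 4 = 81 by norm_num, ← hW]; exact card_subgroup_dvd_card _)
    change 81 % 13 = Nat.card (fixSub G) % 13 at h1
    rw [hj'] at h1 ⊢
    interval_cases j <;> first | (norm_num at h1; done) | (norm_num; done) | skip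
    have htop : fixSub G = ⊤ := Subgroup.eq_top_of_card_eq _ (by rw [hj', hW]; norm_num)
    rw [show G = 1 from MulEquiv.ext fun x => htop.ge (Subgroup.mem_top x), orderOf_one] at hord
    norm_num at hord
  haveI : Fact (Nat.Prime 3) := ⟨by norm_num⟩
  obtain ⟨⟨q, hq⟩, hq3⟩ := exists_prime_orderOf_dvd_card' (G := fixSub G) 3 (by rw [hU])
  have hq3' : orderOf q = 3 := by rw [← hq3, ← Subgroup.orderOf_coe (⟨q, hq⟩ : fixSub G)]
  have hUq : fixSub G ≤ zpowers q := le_of_eq (Subgroup.eq_of_le_of_card_ge (zpowers_le.mpr hq) (by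
    rw [hU, Nat.card_zpowers, hq3'])).symm
  obtain ⟨u, rfl⟩ := QuotientGroup.mk_surjective q
  -- commutation with the fixed element
  let ψ : F →* Z :=
    { toFun := fun y => ⟨⁅(u : A), (y : A)⁆, hf.comm _ u.2 _ y.2⟩
      map_one' := Subtype.ext (by simp)
      map_mul' := fun y y' => Subtype.ext (by
        show ⁅(u : A), (y : A) * y'⁆ = ⁅(u : A), (y : A)⁆ * ⁅(u : A), (y' : A)⁆
        rw [comm_mul_right, central_conj (hf.cent y.2) (hf.comm _ u.2 _ y'.2)]) }
  have hψ3 : ∀ y, ψ y ^ 3 = 1 := fun y => by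
    rw [← map_pow]
    exact Subtype.ext (hf.central_left (hf.cent u.2) (he _ y.2))
  have hrange : Nat.card ψ.range ≤ 3 := by
    letI := hf.base.field.toField
    letI : CommGroup Z := { (inferInstance : Group Z) with mul_comm := fun x y => Subtype.ext (hf.base.comm x x.2 y y.2) }
    let f : Z →* genRing (V := V) Z :=
      { toFun := fun z => zeta (V := V) Z z, map_one' := map_one (zeta (V := V) Z), map_mul' := map_mul (zeta (V := V) Z) }
    haveI : IsCyclic Z := isCyclic_of_injective_ringHom f (zeta_injective hf.base)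
    haveI : Fintype Z := Fintype.ofFinite _
    rw [Nat.card_eq_fintype_card]
    refine le_trans ?_ (IsCyclic.card_pow_eq_one_le (α := Z) (n := 3) (by norm_num))
    rw [← Finset.card_univ]
    refine Finset.card_le_card_of_injOn Subtype.val (fun x _ => ?_) Subtype.val_injective.injOn
    obtain ⟨y, hy⟩ := x.2
    simp [← hy, hψ3]
  let K : Subgroup (F ⧸ Z.subgroupOf F) := ψ.ker.map (QuotientGroup.mk' _)
  have hZK : Z.subgroupOf F ≤ ψ.ker := fun z hz => Subtype.ext (hf.central_left (hf.cent u.2) hz)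
  have hKcard : 27 ≤ Nat.card K := by
    have e1 : (Z.subgroupOf F).relIndex ψ.ker * ψ.ker.index = 81 := by
      rw [Subgroup.relIndex_mul_index hZK]; exact hw
    have e2 : ψ.ker.index ≤ 3 := by rw [Subgroup.index_ker]; exact hrange
    have e3 : Nat.card K = (Z.subgroupOf F).relIndex ψ.ker := by
      rw [← Nat.card_congr (QuotientGroup.quotientKerEquivOfSurjective _
        (MonoidHom.subgroupMap_surjective (QuotientGroup.mk' (Z.subgroupOf F)) ψ.ker)).toEquiv, ← Subgroup.index_eq_card]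
      show _ = ((Z.subgroupOf F).subgroupOf ψ.ker).index
      congr 1
      ext x
      rw [MonoidHom.mem_ker, Subgroup.mem_subgroupOf, ← QuotientGroup.eq_one_iff]
      exact ⟨fun h => congrArg Subtype.val h, fun h => Subtype.ext h⟩
    rw [e3]
    by_contra hlt
    have := Nat.mul_le_mul (Nat.le_of_lt_succ (Nat.lt_succ_of_le (Nat.le_of_lt (Nat.lt_of_not_ge hlt)))) e2
    nlinarith
  have huz : (g * u * g⁻¹ : A)⁻¹ * u ∈ Z := by
    have h := hq
    change G (QuotientGroup.mk u) = QuotientGroup.mk u at h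
    exact (QuotientGroup.eq (s := Z.subgroupOf F)).mp h
  have hKinv : ∀ x ∈ K, G x ∈ K := by
    rintro _ ⟨y, hy, rfl⟩
    refine ⟨MulAut.conjNormal g y, Subtype.ext ?_, rfl⟩
    show ⁅(u : A), g * (y : A) * g⁻¹⁆ = 1
    have hy' : ⁅(u : A), (y : A)⁆ = 1 := congrArg Subtype.val hy
    have hgy : g * (y : A) * g⁻¹ ∈ F := hf.normal.conj_mem _ y.2 g
    rw [show (u : A) = g * (u : A) * g⁻¹ * ((g * u * g⁻¹ : A)⁻¹ * u) by group, comm_mul_left,
      commutatorElement_eq_one_iff_mul_comm.mpr (Subgroup.mem_centralizer_iff.mp (hf.cent hgy) _ huz),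
      mul_one, mul_inv_cancel, one_mul]
    calc ⁅g * (u : A) * g⁻¹, g * (y : A) * g⁻¹⁆ = g * ⁅(u : A), (y : A)⁆ * g⁻¹ := by
          simp only [commutatorElement_def]; group
      _ = 1 := by rw [hy', mul_one, mul_inv_cancel]
  have hfixK : ∀ x : F ⧸ Z.subgroupOf F, x ∈ fixSub G → x ∈ K := fun x hx =>
    (zpowers_le.mpr (show QuotientGroup.mk u ∈ K from ⟨u, Subtype.ext (by simp [ψ]), rfl⟩)) (hUq hx)
  have h2 := card_fix_modEq hord K hKinv
  rw [Nat.card_congr (Equiv.subtypeEquivRight (p := fun x => x ∈ K ∧ G x = x) (q := fun x => x ∈ fixSub G)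
    fun x => ⟨fun h => h.2, fun h => ⟨hfixK x h, h⟩⟩), hU] at h2
  obtain ⟨j, hj, hj'⟩ := (Nat.dvd_prime_pow (by norm_num : Nat.Prime 3)).mp
    (show Nat.card K ∣ 3 ^ 4 by rw [show 3 ^ 4 = 81 by norm_num, ← hW]; exact card_subgroup_dvd_card _)
  change Nat.card K % 13 = 3 % 13 at h2
  rw [hj'] at h2 hKcard
  interval_cases j <;> first | (norm_num at h2; done) | (norm_num at hKcard; done) | skip
  have hKtop : K = ⊤ := Subgroup.eq_top_of_card_eq _ (by rw [hj', hW]; norm_num)
  have huZ : (u : A) ∈ Z := hf.centre_F u.2 fun y hy => by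
    obtain ⟨y', hy', e⟩ := hKtop.ge (Subgroup.mem_top (QuotientGroup.mk (⟨y, hy⟩ : F)))
    have hz : (y'⁻¹ * ⟨y, hy⟩ : F) ∈ Z.subgroupOf F := QuotientGroup.eq.mp e
    have h3 : (⟨y, hy⟩ : F) ∈ ψ.ker := by
      rw [← mul_inv_cancel_left y' ⟨y, hy⟩]
      exact ψ.ker.mul_mem hy' (hZK hz)
    exact congrArg Subtype.val h3
  rw [(QuotientGroup.eq_one_iff u).mpr huZ, orderOf_one] at hq3'
  norm_num at hq3'

/-- The primitive case. -/
theorem field_pair (h : Setup A V Z) (hodd : Odd (Nat.card A)) (ih : IH.{u} (Nat.card A)) (hne : ∃ x : V, x ≠ 0) : Pair A V := by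
  classical
  haveI := h.normal
  haveI := h.faith
  obtain ⟨v, hv⟩ := hne
  set C := centralizer (Z : Set A) with hCdef
  by_cases hCZ : C ≤ Z
  · obtain ⟨z₀, hz₀, hgen⟩ := exists_gen h
    refine ⟨v, z₀ • v, fun a ha haz x => ?_⟩
    have hconj : a * z₀ * a⁻¹ ∈ Z := h.normal.conj_mem _ hz₀ a
    have e : (a * z₀ * a⁻¹) • v = z₀ • v := by
      rw [mul_smul, mul_smul, show a⁻¹ • v = v by rw [inv_smul_eq_iff, ha], haz]
    have hac : a * z₀ * a⁻¹ = z₀ := by
      by_contra hcon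
      refine hv (h.fx_center (Z.mul_mem (Z.inv_mem hz₀) hconj) (fun e1 => hcon (inv_mul_eq_one.mp e1).symm) ?_)
      rw [mul_smul, e, inv_smul_smul]
    have haZ : a ∈ Z := hCZ (mem_cent_of_gen hgen hac)
    have ha1 : a = 1 := by
      by_contra hcon
      exact hv (h.fx_center haZ hcon ha)
    rw [ha1, one_smul]
  haveI : Group.IsSolvable A := Cfsg.Agent.S0205.result hodd
  obtain ⟨F, L, hf⟩ := exists_frame h
  haveI := hf.normal
  haveI := centralizer_normal h.normal
  letI := sectionComm hf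
  set e := Z.relIndex L with he_def
  set Q := Nat.card (genRing (V := V) Z) with hQdef
  set w := Z.relIndex F with hwdef
  have hwe : w = e * e := hf.sq_index
  have hVQ : Q ^ e ≤ Nat.card V := hf.card_ge
  have hFZ : ¬ F ≤ Z := fun hle => hCZ fun x hx =>
    hf.centre x hx fun y hy => hf.central_left hx (hle hy)
  have hw1 : w ≠ 1 := fun h1 => hFZ (Subgroup.relIndex_eq_one.mp h1)
  have hwdvd : w ∣ Nat.card A :=
    (Subgroup.relIndex_dvd_card Z F).trans (card_subgroup_dvd_card F)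
  have hweodd : Odd e := hodd.of_dvd_nat ((Dvd.intro e hwe.symm).trans hwdvd)
  have he3 : 3 ≤ e := by
    obtain ⟨k, hk⟩ := hweodd
    rcases Nat.eq_zero_or_pos k with rfl | hk0
    · exact absurd (hwe.trans (by rw [hk]; norm_num)) hw1
    · omega
  -- primes of the index
  have hprime : ∀ s : ℕ, s.Prime → s ∣ e → s < Q ∧ Q % s = 1 := fun s hs hd => by
    obtain ⟨z, hz, hzo⟩ := hf.prime_dvd hs (by rw [← hwdef, hwe]; exact dvd_mul_of_dvd_left hd e)
    letI := h.field.toField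
    haveI : Fintype (genRing (V := V) Z) := Fintype.ofFinite _
    let ζu := (zeta (V := V) Z).toHomUnits
    have hinj : Function.Injective ζu := fun a b e => zeta_injective h (congrArg Units.val e)
    have h1 : s ∣ Nat.card (genRing (V := V) Z)ˣ := by
      rw [← hzo, ← Subgroup.orderOf_mk z hz, ← orderOf_injective ζu hinj]
      exact orderOf_dvd_natCard _
    rw [Nat.card_units, ← hQdef] at h1
    have hQ1 : 1 < Q := Finite.one_lt_card
    have h2 := Nat.le_of_dvd (by omega) h1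
    refine ⟨by omega, ?_⟩
    obtain ⟨c, hc⟩ := h1
    rw [show Q = s * c + 1 by omega, Nat.mul_add_mod, Nat.mod_eq_of_lt hs.one_lt]
  have hQ4 : 4 ≤ Q := by
    obtain ⟨s, hs, hd⟩ := Nat.exists_prime_and_dvd (n := e) (by omega)
    have h1 := (hprime s hs hd).1
    have h2 : s ≠ 2 := fun h2 => by subst h2; exact (Nat.not_even_iff_odd.mpr hweodd) (even_iff_two_dvd.mpr hd)
    have := hs.two_le
    omega
  -- the groups on the section
  set S := (phi Z F).range with hSdef
  set H := C.map (phi Z F) with hHdef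
  have hHS : H ≤ S := Subgroup.map_le_range _ _
  have hHn : ∀ g ∈ S, ∀ t ∈ H, g * t * g⁻¹ ∈ H := by
    rintro _ ⟨a, rfl⟩ _ ⟨c, hc, rfl⟩
    exact ⟨a * c * a⁻¹, (centralizer_normal h.normal).conj_mem c hc a, by simp⟩
  have hScr : CRAut S := phi_cr hf
  have hSodd : Odd (Nat.card S) := hodd.of_dvd_nat (Subgroup.card_range_dvd (phi Z F))
  have hHodd : Odd (Nat.card H) := hSodd.of_dvd_nat (Subgroup.card_dvd_of_le hHS)
  have hSlt : Nat.card S < Nat.card A := by
    have h1 := (phi Z F).ker.card_eq_card_quotient_mul_card_subgroup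
    rw [Nat.card_congr (QuotientGroup.quotientKerEquivRange (phi Z F)).toEquiv] at h1
    have h2 : 1 < Nat.card (phi Z F).ker := (Subgroup.one_lt_card_iff_ne_bot _).mpr fun hb => hFZ fun x hx => by
      have : x ∈ (phi Z F).ker := MonoidHom.mem_ker.mpr (phi_F hf hx)
      rw [hb, Subgroup.mem_bot] at this
      rw [this]
      exact one_mem Z
    rw [h1]
    exact lt_mul_of_one_lt_right Nat.card_pos h2
  have hW : Nat.card (F ⧸ Z.subgroupOf F) = w := rfl
  have hHle : Nat.card H ≤ e ^ 4 := by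
    refine (Nat.card_le_card_of_injective _ (Subgroup.inclusion_injective hHS)).trans
      ((card_le_of_pair S hScr (fun A V _ _ _ _ _ hA => ih A V (by omega)) hSodd).trans ?_)
    rw [hW, hwe]
    exact le_of_eq (by ring)
  have hpow : ∀ x ∈ F, x ^ w ∈ Z := fun x hx => by
    have h1 : (QuotientGroup.mk (⟨x, hx⟩ : F) : F ⧸ Z.subgroupOf F) ^ w = 1 := by
      rw [← hW]; exact pow_card_eq_one'
    rw [← QuotientGroup.mk_pow, QuotientGroup.eq_one_iff] at h1
    exact h1
  have hexp : ∀ s : ℕ, (∀ x ∈ F, x ^ s ∈ Z) → ∀ x : F ⧸ Z.subgroupOf F, x ^ s = 1 := fun s hs x =>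
    QuotientGroup.induction_on x fun y => (QuotientGroup.eq_one_iff _).mpr (hs y y.2)
  have hdiv : ∀ (s : ℕ), s.Prime → e = s → ∀ (m : ℕ), (s ^ 2 - 1) * (s ^ 2 - s) ∣ 2 ^ 5 * m → Nat.card H ∣ m := by
    intro s hs hes m hm
    haveI := Fact.mk hs
    have h1 := card_dvd_gl (s := s) (k := 2) (by rw [hW, hwe, hes, sq])
      (hexp s (hf.exponent_halve s (by rw [← hes, ← hwe]; exact hpow))) H
    rw [Fin.prod_univ_two] at h1
    simp only [Fin.val_zero, Fin.val_one, pow_zero, pow_one] at h1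
    exact (Nat.Coprime.pow_right 5 hHodd.coprime_two_right).dvd_of_dvd_mul_left (h1.trans hm)
  have hH : Nat.card H = 1 ∨ 64 * Nat.card H ^ 3 * e ^ 6 < Q ^ (2 * e) := by
    by_cases he11 : 11 ≤ e
    · refine Or.inr (lt_of_le_of_lt ?_ (key_big he11 hweodd hQ4 fun s hs hd => (hprime s hs hd).1))
      calc 64 * Nat.card H ^ 3 * e ^ 6 ≤ 64 * (e ^ 4) ^ 3 * e ^ 6 :=
            Nat.mul_le_mul_right _ (Nat.mul_le_mul_left _ (Nat.pow_le_pow_left hHle 3))
        _ = 64 * e ^ 18 := by ring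
    have key : ∀ b m : ℕ, Nat.card H ≤ b → m ≤ Q → 64 * b ^ 3 * e ^ 6 < m ^ (2 * e) →
        Nat.card H = 1 ∨ 64 * Nat.card H ^ 3 * e ^ 6 < Q ^ (2 * e) := fun b m hb hm hlt => Or.inr
      (lt_of_le_of_lt (Nat.mul_le_mul_right _ (Nat.mul_le_mul_left _ (Nat.pow_le_pow_left hb 3)))
        (hlt.trans_le (Nat.pow_le_pow_left hm _)))
    rcases (show e = 3 ∨ e = 5 ∨ e = 7 ∨ e = 9 by obtain ⟨k, hk⟩ := hweodd; omega) with he | he | he | he
    · left
      haveI : Fact (Nat.Prime 3) := ⟨by norm_num⟩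
      have h3 : Nat.card H ∣ 3 := hdiv 3 (by norm_num) he 3 (by norm_num)
      rcases (Nat.dvd_prime (by norm_num)).mp h3 with h1 | h1
      · exact h1
      rw [no_normal_pGroup (p := 3) (IsPGroup.of_card (n := 2) (by rw [hW, hwe, he]; norm_num)) hScr hHS hHn
        (IsPGroup.of_card (n := 1) (by rw [h1, pow_one]))]
      simp
    · have h15 := Nat.le_of_dvd (by norm_num) (hdiv 5 (by norm_num) he 15 (by norm_num))
      obtain ⟨hlt, hmod⟩ := hprime 5 (by norm_num) (by rw [he])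
      have hQ6 : Q ≠ 6 := fun h6 => by
        letI := h.field.toField
        haveI : Fintype (genRing (V := V) Z) := Fintype.ofFinite _
        have := Fintype.isPrimePow_card_of_field (α := genRing (V := V) Z)
        rw [← Nat.card_eq_fintype_card, ← hQdef, h6, isPrimePow_iff_unique_prime_dvd] at this
        obtain ⟨p, -, hu⟩ := this
        have := (hu 2 ⟨Nat.prime_two, by norm_num⟩).trans (hu 3 ⟨Nat.prime_three, by norm_num⟩).symm
        norm_num at this
      exact key 15 11 h15 (by omega) (by rw [he]; norm_num)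
    · exact key 63 8 (Nat.le_of_dvd (by norm_num) (hdiv 7 (by norm_num) he 63 (by norm_num)))
        (by have := hprime 7 (by norm_num) (by rw [he]); omega) (by rw [he]; norm_num)
    · have h3 : ∀ x ∈ F, x ^ 3 ∈ Z := hf.exponent_halve 3 (hf.exponent_halve 9 (by
        rw [show 9 * 9 = e * e by rw [he], ← hwe]; exact hpow))
      have h5 : Nat.card H ≤ 5 := bound_81 (by rw [hW, hwe, he]) (hexp 3 h3) hScr hHS hHn hHodd (by
        rintro _ ⟨c, hc, rfl⟩
        exact no13 hf (by rw [← hwdef, hwe, he]) h3 hc)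
      exact key 5 4 h5 hQ4 (by rw [he]; norm_num)
  -- the orders
  have hCcard : Nat.card C = Nat.card H * w * Nat.card Z := by
    have h1 := ((phi Z F).comp C.subtype).ker.card_eq_card_quotient_mul_card_subgroup
    have h2 : ((phi Z F).comp C.subtype).ker = F.subgroupOf C := by
      ext x
      exact ⟨fun hx => phi_ker_cent hf x.2 (MonoidHom.mem_ker.mp hx), fun hx => MonoidHom.mem_ker.mpr (phi_F hf hx)⟩
    rw [Nat.card_congr (QuotientGroup.quotientKerEquivRange _).toEquiv, MonoidHom.range_comp, Subgroup.range_subtype,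
      h2, Nat.card_congr (Subgroup.subgroupOfEquivOfLe hf.cent).toEquiv] at h1
    have h3 := (Z.subgroupOf F).card_eq_card_quotient_mul_card_subgroup
    rw [hW, Nat.card_congr (Subgroup.subgroupOfEquivOfLe hf.le).toEquiv] at h3
    rw [h1, h3, mul_assoc]
  have hZQ : Nat.card Z ≤ Q := (card_lt_field h).le
  have hA : Nat.card A ≤ Q * Q * (Nat.card H * w) :=
    calc Nat.card A ≤ Nat.card Z * Nat.card C := card_le_mul h
      _ ≤ Q * (Nat.card H * w * Q) := Nat.mul_le_mul hZQ (by rw [hCcard]; exact Nat.mul_le_mul_left _ hZQ)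
      _ = _ := by ring
  set Vc := Nat.card V with hVc
  have hVpos : 0 < Vc := Nat.card_pos
  haveI : Fintype A := Fintype.ofFinite _
  haveI : Fintype V := Fintype.ofFinite _
  let bad : Finset A := Finset.univ.filter fun g => g ∈ C ∧ g ∉ F ∧ Vc < fc V g ^ 3
  have hsmall : ∀ g : A, g ≠ 1 → g ∉ bad → fc V g ^ 3 ≤ Vc := fun g hg1 hgb => by
    by_cases hgC : g ∈ C
    · by_cases hgF : g ∈ F
      · by_cases hgZ : g ∈ Z
        · rw [h.fc_center hgZ hg1, one_pow]; exact hVpos
        obtain ⟨y, hy, hne⟩ : ∃ y ∈ F, ⁅y, g⁆ ≠ 1 := by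
          by_contra hcon
          push Not at hcon
          exact hgZ (hf.centre_F hgF fun y hy => by
            rw [← commutatorElement_inv, hcon y hy, inv_one])
        refine h.fc_pow_three_of_comm hodd hgC (hf.cent hy) ?_ fun e1 => hne (by rw [commutatorElement_def, e1, mul_inv_cancel])
        have e2 : g⁻¹ * (y * g * y⁻¹) = g⁻¹ * ⁅y, g⁆ * g := by simp [commutatorElement_def, mul_assoc]
        rw [e2]
        simpa using h.normal.conj_mem _ (hf.comm y hy g hgF) g⁻¹
      · by_contra hcon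
        exact hgb (Finset.mem_filter.mpr ⟨Finset.mem_univ _, hgC, hgF, not_le.mp hcon⟩)
    · exact h.fc_pow_three_of_semilinear hodd hgC
  have hbad : ∀ g ∈ bad, fc V g ^ 3 ≤ Vc ^ 2 := fun g hg => by
    obtain ⟨-, hgC, hgF, -⟩ := Finset.mem_filter.mp hg
    obtain ⟨y, hy, hne⟩ : ∃ y ∈ F, ⁅g, y⁆ ∉ Z := by
      by_contra hcon
      push Not at hcon
      exact hgF (hf.ker g hgC hcon)
    set c := y * g * y⁻¹ * g⁻¹ with hc
    have hcF : c ∈ F := by
      rw [show c = y * (g * y⁻¹ * g⁻¹) by rw [hc]; group]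
      exact F.mul_mem hy (hf.normal.conj_mem _ (F.inv_mem hy) g)
    have hcZ : c ∉ Z := fun hcZ => hne (by
      have := Z.inv_mem hcZ
      rwa [show c⁻¹ = ⁅g, y⁆ by rw [hc, commutatorElement_def]; group] at this)
    have hc3 := hsmall c (fun e1 => hcZ (e1 ▸ Z.one_mem)) (fun hb => (Finset.mem_filter.mp hb).2.2.1 hcF)
    have h2 : fc V g ^ 2 ≤ Vc * fc V c := Setup.fc_two_conj (V := V) (g := g) (y := y)
    refine (Nat.pow_le_pow_iff_left (by norm_num : (2 : ℕ) ≠ 0)).mp ?_
    calc (fc V g ^ 3) ^ 2 = (fc V g ^ 2) ^ 3 := by ring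
      _ ≤ (Vc * fc V c) ^ 3 := Nat.pow_le_pow_left h2 3
      _ = Vc ^ 3 * fc V c ^ 3 := by ring
      _ ≤ Vc ^ 3 * Vc := Nat.mul_le_mul_left _ hc3
      _ = (Vc ^ 2) ^ 2 := by ring
  have hbadcard : bad.card ≤ 2 * (Nat.card H * w) := by
    let π : A → A ⧸ Z := QuotientGroup.mk
    have h1 : (bad.image π).card ≤ Nat.card H * w := by
      have hsub : ∀ q ∈ bad.image π, q ∈ C.map (QuotientGroup.mk' Z) := fun q hq => by
        obtain ⟨g, hg, rfl⟩ := Finset.mem_image.mp hq
        exact ⟨g, (Finset.mem_filter.mp hg).2.1, rfl⟩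
      calc (bad.image π).card ≤ Nat.card (C.map (QuotientGroup.mk' Z)) := by
            rw [Nat.card_eq_fintype_card, ← Finset.card_univ,
              ← Finset.card_map (⟨Subtype.val, Subtype.val_injective⟩ : C.map (QuotientGroup.mk' Z) ↪ A ⧸ Z)]
            exact Finset.card_le_card fun q hq => Finset.mem_map.mpr ⟨⟨q, hsub q hq⟩, Finset.mem_univ _, rfl⟩
        _ = Nat.card H * w := by
          have h2 := ((QuotientGroup.mk' Z).comp C.subtype).ker.card_eq_card_quotient_mul_card_subgroup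
          have h3 : ((QuotientGroup.mk' Z).comp C.subtype).ker = Z.subgroupOf C := by
            ext x
            exact QuotientGroup.eq_one_iff _
          rw [Nat.card_congr (QuotientGroup.quotientKerEquivRange _).toEquiv, MonoidHom.range_comp,
            Subgroup.range_subtype, h3, Nat.card_congr (Subgroup.subgroupOfEquivOfLe h.le_centralizer).toEquiv,
            hCcard] at h2
          exact (Nat.eq_of_mul_eq_mul_right Nat.card_pos h2).symm
    refine (Finset.card_le_mul_card_image bad 2 fun q hq => ?_).trans (Nat.mul_le_mul_left 2 h1)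
    by_contra hcon
    obtain ⟨a, ha, b, hb, c, hc, hab, hac, hbc⟩ := Finset.two_lt_card.mp (not_le.mp hcon)
    rw [Finset.mem_filter] at ha hb hc
    have hz : ∀ x, π x = q → a⁻¹ * x ∈ Z := fun x hx => QuotientGroup.eq.mp (ha.2.trans hx.symm)
    have hgC : a ∈ C := (Finset.mem_filter.mp ha.1).2.1
    have h3 := h.three hgC (hz a ha.2) (hz b hb.2) (hz c hc.2) (fun e => hab (mul_left_cancel e))
      (fun e => hac (mul_left_cancel e)) (fun e => hbc (mul_left_cancel e))
    simp only [mul_inv_cancel_left] at h3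
    have k1 := (Finset.mem_filter.mp ha.1).2.2.2
    have k2 := (Finset.mem_filter.mp hb.1).2.2.2
    have k3 := (Finset.mem_filter.mp hc.1).2.2.2
    have k4 : (fc V a * fc V b * fc V c) ^ 3 ≤ Vc ^ 3 := Nat.pow_le_pow_left h3 3
    rw [mul_pow, mul_pow] at k4
    have k5 : Vc * Vc * Vc < fc V a ^ 3 * fc V b ^ 3 * fc V c ^ 3 :=
      Nat.mul_lt_mul_of_lt_of_lt (Nat.mul_lt_mul_of_lt_of_lt k1 k2) k3
    rw [pow_three' Vc] at k4
    omega
  -- counting
  by_contra hpair
  have hcov : Vc * Vc ≤ ∑ g ∈ Finset.univ.erase (1 : A), fc V g ^ 2 := by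
    let S : A → Finset (V × V) := fun g => Finset.univ.filter fun p => g • p.1 = p.1 ∧ g • p.2 = p.2
    have hS : ∀ g, (S g).card = fc V g ^ 2 := fun g => by
      rw [sq, fc, ← Nat.card_prod, ← Nat.card_eq_finsetCard]
      exact Nat.card_congr ⟨fun p => (⟨p.1.1, (Finset.mem_filter.mp p.2).2.1⟩, ⟨p.1.2, (Finset.mem_filter.mp p.2).2.2⟩),
        fun p => ⟨(p.1.1, p.2.1), Finset.mem_filter.mpr ⟨Finset.mem_univ _, p.1.2, p.2.2⟩⟩, fun _ => rfl, fun _ => rfl⟩
    have hsub : (Finset.univ : Finset (V × V)) ⊆ (Finset.univ.erase (1 : A)).biUnion S := fun p _ => by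
      by_contra hp
      refine hpair ⟨p.1, p.2, fun a ha1 ha2 x => ?_⟩
      have : a = 1 := by
        by_contra hne
        exact hp (Finset.mem_biUnion.mpr ⟨a, Finset.mem_erase.mpr ⟨hne, Finset.mem_univ _⟩,
          Finset.mem_filter.mpr ⟨Finset.mem_univ _, ha1, ha2⟩⟩)
      rw [this, one_smul]
    calc Vc * Vc = (Finset.univ : Finset (V × V)).card := by
          rw [hVc, ← Nat.card_prod, Nat.card_eq_fintype_card, Finset.card_univ]
      _ ≤ ∑ g ∈ Finset.univ.erase (1 : A), (S g).card := (Finset.card_le_card hsub).trans Finset.card_biUnion_le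
      _ = _ := Finset.sum_congr rfl fun g _ => hS g
  -- the two maxima
  let E := Finset.univ.erase (1 : A)
  have hmax : ∀ (T : Finset A) (b : ℕ), (∀ g ∈ T, fc V g ^ 3 ≤ b) → ∃ N, N ^ 3 ≤ b ∧ ∀ g ∈ T, fc V g ≤ N := by
    intro T b hb
    refine ⟨T.sup fun g => fc V g, ?_, fun g hg => Finset.le_sup (f := fun g => fc V g) hg⟩
    rcases T.eq_empty_or_nonempty with rfl | hT
    · simp
    · obtain ⟨g, hg, hge⟩ := Finset.exists_mem_eq_sup T hT fun g => fc V g
      rw [hge]
      exact hb g hg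
  obtain ⟨N, hN, hNs⟩ := hmax (E.filter fun g => g ∉ bad) Vc fun g hg =>
    hsmall g (Finset.mem_erase.mp (Finset.mem_filter.mp hg).1).1 (Finset.mem_filter.mp hg).2
  obtain ⟨M, hM, hMs⟩ := hmax bad (Vc ^ 2) hbad
  have hsum : ∑ g ∈ E, fc V g ^ 2 ≤ Nat.card A * N ^ 2 + bad.card * M ^ 2 := by
    rw [← Finset.sum_filter_add_sum_filter_not E (fun g => g ∉ bad)]
    refine add_le_add ((Finset.sum_le_card_nsmul _ _ (N ^ 2) fun g hg => Nat.pow_le_pow_left (hNs g hg) 2).trans ?_)
      ((Finset.sum_le_card_nsmul _ _ (M ^ 2) fun g hg => Nat.pow_le_pow_left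
        (hMs g (not_not.mp (Finset.mem_filter.mp hg).2)) 2).trans ?_)
    · rw [smul_eq_mul, Nat.card_eq_fintype_card, ← Finset.card_univ]
      exact Nat.mul_le_mul_right _ (Finset.card_le_card (Finset.subset_univ _))
    · rw [smul_eq_mul]
      exact Nat.mul_le_mul_right _ (Finset.card_le_card fun g hg => not_not.mp (Finset.mem_filter.mp hg).2)
  have htot := hcov.trans hsum
  have hN2 : (N ^ 2) ^ 3 ≤ Vc ^ 2 := by rw [← pow_mul, show 2 * 3 = 3 * 2 by rfl, pow_mul]; exact Nat.pow_le_pow_left hN 2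
  rcases hH with h1 | hkey
  · have hb0 : bad = ∅ := Finset.eq_empty_of_forall_notMem fun g hg => by
      obtain ⟨-, hgC, hgF, -⟩ := Finset.mem_filter.mp hg
      refine hgF (phi_ker_cent hf hgC ?_)
      have hbot : H = ⊥ := Subgroup.eq_bot_of_card_eq _ h1
      exact Subgroup.mem_bot.mp (hbot.le ⟨g, hgC, rfl⟩)
    rw [hb0, Finset.card_empty, zero_mul, add_zero] at htot
    rw [h1, one_mul, hwe] at hA
    have k1 : Nat.card A ^ 3 < Vc ^ 4 :=
      ((Nat.pow_le_pow_left hA 3).trans_lt (h_one_bound hQ4 he3)).trans_le (Nat.pow_le_pow_left hVQ 4)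
    have k2 : (Nat.card A * N ^ 2) ^ 3 < (Vc * Vc) ^ 3 :=
      calc (Nat.card A * N ^ 2) ^ 3 = Nat.card A ^ 3 * (N ^ 2) ^ 3 := mul_pow _ _ _
        _ ≤ Nat.card A ^ 3 * Vc ^ 2 := Nat.mul_le_mul_left _ hN2
        _ < Vc ^ 4 * Vc ^ 2 := Nat.mul_lt_mul_of_pos_right k1 (pow_pos hVpos 2)
        _ = (Vc * Vc) ^ 3 := by ring
    exact absurd htot (not_le.mpr (lt_of_cubes k2))
  · have hQe : Q ^ (2 * e) ≤ Vc ^ 2 := by rw [mul_comm, pow_mul]; exact Nat.pow_le_pow_left hVQ 2
    have kb : 8 * bad.card ^ 3 < Vc ^ 2 :=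
      calc 8 * bad.card ^ 3 ≤ 8 * (2 * (Nat.card H * w)) ^ 3 := Nat.mul_le_mul_left _ (Nat.pow_le_pow_left hbadcard 3)
        _ = 64 * Nat.card H ^ 3 * e ^ 6 := by rw [hwe]; ring
        _ < _ := hkey.trans_le hQe
    have ka : 8 * Nat.card A ^ 3 < Vc ^ 4 :=
      calc 8 * Nat.card A ^ 3 ≤ 8 * (Q * Q * (Nat.card H * w)) ^ 3 := Nat.mul_le_mul_left _ (Nat.pow_le_pow_left hA 3)
        _ = Q ^ 6 * (8 * Nat.card H ^ 3 * e ^ 6) := by rw [hwe]; ring
        _ ≤ Q ^ 6 * (64 * Nat.card H ^ 3 * e ^ 6) :=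
          Nat.mul_le_mul_left _ (Nat.mul_le_mul_right _ (Nat.mul_le_mul_right _ (by norm_num)))
        _ < Q ^ 6 * Q ^ (2 * e) := Nat.mul_lt_mul_of_pos_left hkey (pow_pos (by omega) 6)
        _ ≤ Q ^ (2 * e) * Q ^ (2 * e) := Nat.mul_le_mul_right _ (Nat.pow_le_pow_right (by omega) (by omega))
        _ ≤ Vc ^ 2 * Vc ^ 2 := Nat.mul_le_mul hQe hQe
        _ = Vc ^ 4 := by ring
    have l1 : 2 * (Nat.card A * N ^ 2) < Vc * Vc := lt_of_cubes (
      calc (2 * (Nat.card A * N ^ 2)) ^ 3 = 8 * Nat.card A ^ 3 * (N ^ 2) ^ 3 := by ring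
        _ ≤ 8 * Nat.card A ^ 3 * Vc ^ 2 := Nat.mul_le_mul_left _ hN2
        _ < Vc ^ 4 * Vc ^ 2 := Nat.mul_lt_mul_of_pos_right ka (pow_pos hVpos 2)
        _ = (Vc * Vc) ^ 3 := by ring)
    have l2 : 2 * (bad.card * M ^ 2) < Vc * Vc := lt_of_cubes (
      calc (2 * (bad.card * M ^ 2)) ^ 3 = 8 * bad.card ^ 3 * (M ^ 3) ^ 2 := by ring
        _ ≤ 8 * bad.card ^ 3 * (Vc ^ 2) ^ 2 := Nat.mul_le_mul_left _ (Nat.pow_le_pow_left hM 2)
        _ < Vc ^ 2 * (Vc ^ 2) ^ 2 := Nat.mul_lt_mul_of_pos_right kb (pow_pos (pow_pos hVpos 2) 2)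
        _ = (Vc * Vc) ^ 3 := by ring)
    omega

end CfsgLib.OddBase
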