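import Cfsg.Agent.Lib.OddBase.Main

/-!
Reduction to faithful irreducible groups and the final induction.
-/

set_option autoImplicit false

namespace CfsgLib.OddBase

open Subgroup

universe u v

variable {A V : Type u} [Group A] [Finite A] [AddCommGroup V] [Finite V] [DistribMulAction A V]

theorem pair_irr_faithful (hodd : Odd (Nat.card A)) (hfaith : FaithfulSMul A V) (hirr : Irr A V)
    (ih : IH.{u} (Nat.card A)) : Pair A V := by
  haveI : WellFoundedGT (Subgroup A) := inferInstance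
  obtain ⟨Z, ⟨hZn, hZc⟩, hmax⟩ := (wellFounded_gt : WellFounded (α := Subgroup A) (· > ·)).has_min
    {N | N.Normal ∧ ∀ x ∈ N, ∀ y ∈ N, x * y = y * x}
    ⟨⊥, inferInstance, fun x hx y hy => by rw [Subgroup.mem_bot.mp hx, Subgroup.mem_bot.mp hy]⟩
  haveI := hZn
  have hR := invRing_genRing (V := V) hZc
  by_cases hid : ∀ e ∈ genRing (V := V) Z, e * e = e → e = 0 ∨ e = 1
  · exact field_pair ⟨hfaith, hZn, hZc, isField_of_no_idem hirr hR hid,
      fun L hL hLc hle => by_contra fun hne => hmax L ⟨hL, hLc⟩ (lt_of_le_of_ne hle (Ne.symm hne))⟩ hodd ih hirr.1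
  · push Not at hid
    obtain ⟨e, he, hee, h0, h1⟩ := hid
    exact blocks_pair hodd hirr ih hR he hee h0 h1

theorem pair_irr (hodd : Odd (Nat.card A)) (hirr : Irr A V) (ih : IH.{u} (Nat.card A)) : Pair A V := by
  let G : Subgroup (Equiv.Perm V) := (MulAction.toPermHom A V).range
  have hmem : ∀ g : G, ∃ a : A, ∀ x : V, (g : Equiv.Perm V) x = a • x := fun g => by
    obtain ⟨a, ha⟩ := g.2
    exact ⟨a, fun x => by rw [← ha]; rfl⟩
  letI : DistribMulAction G V :=
    { smul := fun g x => (g : Equiv.Perm V) x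
      one_smul := fun x => rfl
      mul_smul := fun g h x => rfl
      smul_zero := fun g => by
        obtain ⟨a, ha⟩ := hmem g
        exact (ha 0).trans (smul_zero a)
      smul_add := fun g x y => by
        obtain ⟨a, ha⟩ := hmem g
        show (g : Equiv.Perm V) (x + y) = (g : Equiv.Perm V) x + (g : Equiv.Perm V) y
        rw [ha, ha, ha, smul_add] }
  have hfaith : FaithfulSMul G V := ⟨fun h => Subtype.ext (Equiv.ext h)⟩
  have hdvd : Nat.card G ∣ Nat.card A :=
    Subgroup.card_dvd_of_surjective _ (MulAction.toPermHom A V).rangeRestrict_surjective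
  have hirr' : Irr G V := ⟨hirr.1, fun U hU => hirr.2 U fun a x hx => hU ⟨_, a, rfl⟩ x hx⟩
  obtain ⟨v, w, hvw⟩ := pair_irr_faithful (hodd.of_dvd_nat hdvd) hfaith hirr'
    (fun B W _ _ _ _ _ hlt => ih B W (hlt.trans_le (Nat.le_of_dvd Nat.card_pos hdvd)))
  exact ⟨v, w, fun a ha hb x => hvw ⟨_, a, rfl⟩ ha hb x⟩

theorem pair_cr (hodd : Odd (Nat.card A)) (ih : IH.{u} (Nat.card A)) : ∀ (n : ℕ) (V : Type u) [AddCommGroup V]
    [Finite V] [DistribMulAction A V], Nat.card V = n → CR A V → Pair A V := by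
  intro n
  induction n using Nat.strong_induction_on with
  | _ n ihn =>
  intro V _ _ _ hn hcr
  by_cases hV : ∃ x : V, x ≠ 0
  swap
  · push Not at hV
    exact ⟨0, 0, fun a _ _ x => by rw [hV (a • x), hV x]⟩
  by_cases hirr : ∀ U : AddSubgroup V, Stable A V U → U = ⊥ ∨ U = ⊤
  · exact pair_irr hodd ⟨hV, hirr⟩ ih
  push Not at hirr
  obtain ⟨U, hU, hU0, hU1⟩ := hirr
  obtain ⟨W, hW, hUW, hsup⟩ := hcr U hU
  have hW1 : W ≠ ⊤ := fun h => hU0 (by rwa [h, inf_top_eq] at hUW)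
  have sub : ∀ (S : AddSubgroup V), S ≠ ⊤ → ∀ hS : Stable A V S, ∃ v w : S,
      ∀ a : A, a • (v : V) = v → a • (w : V) = w → ∀ x ∈ S, a • x = x := fun S hS1 hS => by
    letI : DistribMulAction A S :=
      { smul := fun a x => ⟨a • (x : V), hS a x x.2⟩
        one_smul := fun x => Subtype.ext (one_smul A (x : V))
        mul_smul := fun a b x => Subtype.ext (mul_smul a b (x : V))
        smul_zero := fun a => Subtype.ext (smul_zero a)
        smul_add := fun a x y => Subtype.ext (smul_add a (x : V) y) }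
    have hlt : Nat.card S < n := by
      rw [← hn]
      refine lt_of_le_of_ne (Nat.card_le_card_of_injective _ Subtype.val_injective) fun h => hS1 ?_
      exact AddSubgroup.eq_top_of_card_eq _ h
    obtain ⟨v, w, hvw⟩ := ihn _ hlt S rfl fun T hT => by
      obtain ⟨X, hX, h1, h2⟩ := hcr (T.map S.subtype) (by
        rintro a _ ⟨t, ht, rfl⟩
        exact ⟨a • t, hT a t ht, rfl⟩)
      refine ⟨X.comap S.subtype, fun a x hx => hX a x hx, ?_, ?_⟩
      · rw [eq_bot_iff]
        intro x hx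
        exact Subtype.ext (AddSubgroup.mem_bot.mp (h1.le (show (x : V) ∈ T.map S.subtype ⊓ X from
          ⟨⟨x, hx.1, rfl⟩, hx.2⟩)))
      · rw [eq_top_iff]
        intro x _
        obtain ⟨_, ⟨t, ht, rfl⟩, y, hy, e⟩ := AddSubgroup.mem_sup.mp (h2.ge (AddSubgroup.mem_top (x : V)))
        refine AddSubgroup.mem_sup.mpr ⟨t, ht, x - t, ?_, add_sub_cancel t x⟩
        show (x : V) - (t : V) ∈ X
        rw [← e, AddSubgroup.coe_subtype, add_sub_cancel_left]
        exact hy
    exact ⟨v, w, fun a ha hb x hx => congrArg Subtype.val (hvw a (Subtype.ext ha) (Subtype.ext hb) ⟨x, hx⟩)⟩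
  obtain ⟨u₁, u₂, hu⟩ := sub U hU1 hU
  obtain ⟨w₁, w₂, hw⟩ := sub W hW1 hW
  refine ⟨(u₁ : V) + w₁, (u₂ : V) + w₂, fun a h1 h2 x => ?_⟩
  have split : ∀ (u : U) (w : W), a • ((u : V) + w) = u + w → a • (u : V) = u ∧ a • (w : V) = w := by
    intro u w h
    rw [smul_add] at h
    have e : a • (u : V) - u = w - a • (w : V) := by
      rw [sub_eq_sub_iff_add_eq_add, h, add_comm]
    have h0 : a • (u : V) - u = 0 := AddSubgroup.mem_bot.mp (hUW.le
      ⟨U.sub_mem (hU a u u.2) u.2, e ▸ W.sub_mem w.2 (hW a w w.2)⟩)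
    have hu' := sub_eq_zero.mp h0
    rw [hu', add_right_inj] at h
    exact ⟨hu', h⟩
  obtain ⟨s, hs, t, ht, rfl⟩ := AddSubgroup.mem_sup.mp (hsup.ge (AddSubgroup.mem_top x))
  rw [smul_add, hu a (split u₁ w₁ h1).1 (split u₂ w₂ h2).1 s hs, hw a (split u₁ w₁ h1).2 (split u₂ w₂ h2).2 t ht]

theorem ih_all : ∀ m : ℕ, IH.{u} m := by
  intro m
  induction m with
  | zero => intro A V _ _ _ _ _ h; exact absurd h (Nat.not_lt_zero _)
  | succ m ih =>
    intro A V _ _ _ _ _ h hodd hcr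
    exact pair_cr hodd (fun B W _ _ _ _ _ hB => ih B W (by omega)) _ V rfl hcr

/-- Two vectors with trivial common stabilizer, in arbitrary universes. -/
theorem exists_two_vectors {A : Type u} {V : Type v} [Group A] [Finite A] [AddCommGroup V] [Finite V]
    [DistribMulAction A V] [FaithfulSMul A V] (hodd : Odd (Nat.card A))
    (hcr : ∀ U : AddSubgroup V, (∀ a : A, ∀ v ∈ U, a • v ∈ U) →
      ∃ W : AddSubgroup V, (∀ a : A, ∀ w ∈ W, a • w ∈ W) ∧ U ⊓ W = ⊥ ∧ U ⊔ W = ⊤) :
    ∃ v w : V, ∀ a : A, a • v = v → a • w = w → a = 1 := by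
  letI : DistribMulAction (ULift.{v} A) (ULift.{u} V) :=
    { smul := fun a x => ⟨a.down • x.down⟩
      one_smul := fun x => ULift.ext _ _ (one_smul A x.down)
      mul_smul := fun a b x => ULift.ext _ _ (mul_smul a.down b.down x.down)
      smul_zero := fun a => ULift.ext _ _ (smul_zero a.down)
      smul_add := fun a x y => ULift.ext _ _ (smul_add a.down x.down y.down) }
  let f : V →+ ULift.{u} V := { toFun := ULift.up, map_zero' := rfl, map_add' := fun _ _ => rfl }
  have hcr' : CR (ULift.{v} A) (ULift.{u} V) := fun U hU => by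
    obtain ⟨W, hW, h1, h2⟩ := hcr (U.comap f) fun a x hx => hU ⟨a⟩ _ hx
    refine ⟨W.map f, ?_, ?_, ?_⟩
    · rintro a _ ⟨x, hx, rfl⟩
      exact ⟨a.down • x, hW a.down x hx, rfl⟩
    · rw [eq_bot_iff]
      rintro y ⟨hy, x, hx, rfl⟩
      have hx0 : x = 0 := AddSubgroup.mem_bot.mp (h1.le (show x ∈ U.comap f ⊓ W from ⟨hy, hx⟩))
      rw [hx0, map_zero]
      exact zero_mem _
    · rw [eq_top_iff]
      intro y _
      obtain ⟨p, hp, q, hq, hpq⟩ := AddSubgroup.mem_sup.mp (h2.ge (AddSubgroup.mem_top y.down))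
      exact AddSubgroup.mem_sup.mpr ⟨f p, hp, f q, ⟨q, hq, rfl⟩, by rw [← map_add, hpq]; rfl⟩
  obtain ⟨v, w, hvw⟩ := ih_all (Nat.card (ULift.{v} A) + 1) (ULift.{v} A) (ULift.{u} V) (Nat.lt_succ_self _)
    (by rwa [Nat.card_congr Equiv.ulift]) hcr'
  exact ⟨v.down, w.down, fun a h1 h2 => eq_of_smul_eq_smul fun x : V => by
    rw [one_smul]
    exact congrArg ULift.down (hvw ⟨a⟩ (ULift.ext _ _ h1) (ULift.ext _ _ h2) ⟨x⟩)⟩

end CfsgLib.OddBase
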