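import Cfsg.Agent.Lib.OddBase.Sympl

/-!
The action on the symplectic section.
-/

set_option autoImplicit false

namespace CfsgLib.OddBase

open Subgroup
open scoped commutatorElement

universe u

variable {A V : Type u} [Group A] [AddCommGroup V] [DistribMulAction A V] {Z F L : Subgroup A}

/-- A group of automorphisms acting on the additive copy. -/
@[reducible] def addAct {W : Type u} [CommGroup W] (S : Subgroup (MulAut W)) : DistribMulAction S (Additive W) where
  smul g x := Additive.ofMul ((g : MulAut W) (Additive.toMul x))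
  one_smul _ := rfl
  mul_smul _ _ _ := rfl
  smul_zero g := congrArg Additive.ofMul (map_one (g : MulAut W))
  smul_add g x y := congrArg Additive.ofMul (map_mul (g : MulAut W) (Additive.toMul x) (Additive.toMul y))

/-- Complete reducibility of a group of automorphisms. -/
def CRAut {W : Type u} [CommGroup W] (S : Subgroup (MulAut W)) : Prop :=
  ∀ U : Subgroup W, (∀ g ∈ S, ∀ x ∈ U, g x ∈ U) →
    ∃ X : Subgroup W, (∀ g ∈ S, ∀ x ∈ X, g x ∈ X) ∧ U ⊓ X = ⊥ ∧ U ⊔ X = ⊤

/-- A group with two vectors of trivial stabilizer is no larger than the set of pairs. -/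
theorem card_le_of_pair {W : Type u} [CommGroup W] [Finite W] (S : Subgroup (MulAut W)) (hS : CRAut S)
    (ih : IH.{u} (Nat.card S + 1)) (hodd : Odd (Nat.card S)) :
    Nat.card S ≤ Nat.card W * Nat.card W := by
  letI := addAct S
  have hcr : CR S (Additive W) := fun U hU => by
    obtain ⟨X, hX, h1, h2⟩ := hS (AddSubgroup.toSubgroup' U) fun g hg x hx => hU ⟨g, hg⟩ (Additive.ofMul x) hx
    refine ⟨Subgroup.toAddSubgroup X, fun g x hx => hX g g.2 _ hx, ?_, ?_⟩
    · rw [eq_bot_iff]
      intro x hx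
      refine AddSubgroup.mem_bot.mpr (Additive.toMul.injective ?_)
      exact Subgroup.mem_bot.mp (h1.le (show Additive.toMul x ∈ AddSubgroup.toSubgroup' U ⊓ X from ⟨hx.1, hx.2⟩))
    · rw [eq_top_iff]
      intro x _
      obtain ⟨u, hu, y, hy, e⟩ := Subgroup.mem_sup.mp (h2.ge (Subgroup.mem_top (Additive.toMul x)))
      exact AddSubgroup.mem_sup.mpr ⟨Additive.ofMul u, hu, Additive.ofMul y, hy, congrArg Additive.ofMul e⟩
  obtain ⟨v, w, hvw⟩ := ih S (Additive W) (Nat.lt_succ_self _) hodd hcr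
  have hinj : Function.Injective fun g : S => ((g : MulAut W) (Additive.toMul v), (g : MulAut W) (Additive.toMul w)) := by
    intro g g' h
    simp only [Prod.mk.injEq] at h
    have h1 : (g'⁻¹ * g) • v = v := Additive.toMul.injective (by
      show ((g'⁻¹ * g : S) : MulAut W) (Additive.toMul v) = _
      push_cast
      rw [MulAut.mul_apply, h.1, MulAut.inv_apply_self])
    have h2 : (g'⁻¹ * g) • w = w := Additive.toMul.injective (by
      show ((g'⁻¹ * g : S) : MulAut W) (Additive.toMul w) = _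
      push_cast
      rw [MulAut.mul_apply, h.2, MulAut.inv_apply_self])
    refine Subtype.ext (MulEquiv.ext fun x => ?_)
    have h3 : (g' : MulAut W)⁻¹ ((g : MulAut W) x) = x :=
      congrArg Additive.toMul (hvw (g'⁻¹ * g) h1 h2 (Additive.ofMul x))
    rw [← MulAut.apply_inv_self W (g' : MulAut W) ((g : MulAut W) x), h3]
  calc Nat.card S ≤ Nat.card (W × W) := Nat.card_le_card_of_injective _ hinj
    _ = _ := Nat.card_prod _ _

/-- No normal subgroup of the characteristic's prime power order. -/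
theorem no_normal_pGroup {W : Type u} [CommGroup W] [Finite W] {p : ℕ} [Fact p.Prime] (hW : IsPGroup p W)
    {S T : Subgroup (MulAut W)} (hS : CRAut S) (hT : T ≤ S) (hn : ∀ g ∈ S, ∀ t ∈ T, g * t * g⁻¹ ∈ T)
    (hTp : IsPGroup p T) : T = ⊥ := by
  let U : Subgroup W :=
    { carrier := {x | ∀ t ∈ T, t x = x}
      one_mem' := fun t _ => map_one t
      mul_mem' := fun {a b} ha hb t ht => by rw [map_mul, ha t ht, hb t ht]
      inv_mem' := fun {a} ha t ht => by rw [map_inv, ha t ht] }
  obtain ⟨X, hX, h1, h2⟩ := hS U fun g hg x hx t ht => by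
    have := hx _ (hn g⁻¹ (inv_mem hg) t ht)
    rw [inv_inv, MulAut.mul_apply, MulAut.mul_apply] at this
    have h3 := congrArg g this
    rwa [MulAut.apply_inv_self] at h3
  have hXb : X = ⊥ := by
    by_contra hne
    letI : MulAction T X :=
      { smul := fun t x => ⟨(t : MulAut W) x, hX t (hT t.2) x x.2⟩
        one_smul := fun x => Subtype.ext rfl
        mul_smul := fun a b x => Subtype.ext rfl }
    have hp : p ∣ Nat.card X := by
      obtain ⟨k, hk⟩ := (hW.to_subgroup X).exists_card_eq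
      rw [hk]
      refine dvd_pow_self p fun h0 => hne ?_
      rw [h0, pow_zero] at hk
      exact Subgroup.eq_bot_of_card_eq _ hk
    obtain ⟨x, hx, hx1⟩ := hTp.exists_fixed_point_of_prime_dvd_card_of_fixed_point (α := X) hp
      (a := 1) (fun t => Subtype.ext (map_one (t : MulAut W)))
    exact hx1 (Subtype.ext (Subgroup.mem_bot.mp (h1.le (show (x : W) ∈ U ⊓ X from
      ⟨fun t ht => congrArg Subtype.val (hx ⟨t, ht⟩), x.2⟩))).symm)
  rw [hXb, sup_bot_eq] at h2
  exact (eq_bot_iff_forall _).mpr fun t ht => MulEquiv.ext fun x => (h2.ge (Subgroup.mem_top x)) t ht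

variable [Z.Normal] [F.Normal]

/-- The action on the section. -/
def phi (Z F : Subgroup A) [Z.Normal] [F.Normal] : A →* MulAut (F ⧸ Z.subgroupOf F) where
  toFun g := QuotientGroup.congr (Z.subgroupOf F) (Z.subgroupOf F) (MulAut.conjNormal g) (by
    ext x
    refine ⟨?_, fun hx => ⟨(MulAut.conjNormal g⁻¹ : MulAut F) x, ?_, ?_⟩⟩
    · rintro ⟨y, hy, rfl⟩
      show g * (y : A) * g⁻¹ ∈ Z
      exact (inferInstance : Z.Normal).conj_mem _ hy g
    · show g⁻¹ * (x : A) * g⁻¹⁻¹ ∈ Z
      exact (inferInstance : Z.Normal).conj_mem _ hx g⁻¹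
    · apply Subtype.ext
      show g * (g⁻¹ * (x : A) * g⁻¹⁻¹) * g⁻¹ = x
      group)
  map_one' := MulEquiv.ext fun x => QuotientGroup.induction_on x fun y =>
    congrArg QuotientGroup.mk (by simp)
  map_mul' a b := MulEquiv.ext fun x => QuotientGroup.induction_on x fun y =>
    congrArg QuotientGroup.mk (by simp)

theorem phi_mk (g : A) (y : F) : phi Z F g (QuotientGroup.mk y) = QuotientGroup.mk (MulAut.conjNormal g y) := rfl

theorem phi_eq_one_iff (g : A) : phi Z F g = 1 ↔ ∀ y ∈ F, ⁅g, y⁆ ∈ Z := by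
  constructor
  · intro h y hy
    have h1 := congrArg (fun f : MulAut (F ⧸ Z.subgroupOf F) => f (QuotientGroup.mk ⟨y, hy⟩)) h
    simp only [phi_mk, MulAut.one_apply, QuotientGroup.eq] at h1
    have h2 : (g * y * g⁻¹)⁻¹ * y ∈ Z := h1
    have h3 := (inferInstance : Z.Normal).conj_mem _ (Z.inv_mem h2) y
    simpa [commutatorElement_def, mul_assoc] using h3
  · intro h
    refine MulEquiv.ext fun x => QuotientGroup.induction_on x fun y => ?_
    rw [phi_mk, MulAut.one_apply, QuotientGroup.eq]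
    show (g * (y : A) * g⁻¹)⁻¹ * y ∈ Z
    have h3 := (inferInstance : Z.Normal).conj_mem _ (Z.inv_mem (h y y.2)) (y : A)⁻¹
    simpa [commutatorElement_def, mul_assoc] using h3

/-- The section is abelian. -/
@[reducible] def sectionComm (hf : Frame A V Z F L) : CommGroup (F ⧸ Z.subgroupOf F) :=
  { (inferInstance : Group (F ⧸ Z.subgroupOf F)) with
    mul_comm := fun x y => QuotientGroup.induction_on x fun a => QuotientGroup.induction_on y fun b => by
      rw [← QuotientGroup.mk_mul, ← QuotientGroup.mk_mul, QuotientGroup.eq]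
      show ((a : A) * b)⁻¹ * ((b : A) * a) ∈ Z
      have h := hf.comm _ (F.inv_mem b.2) _ (F.inv_mem a.2)
      simpa [commutatorElement_def, mul_assoc] using h }

theorem phi_F (hf : Frame A V Z F L) {g : A} (hg : g ∈ F) : phi Z F g = 1 :=
  (phi_eq_one_iff g).mpr fun y hy => hf.comm g hg y hy

theorem phi_ker_cent (hf : Frame A V Z F L) {g : A} (hg : g ∈ centralizer (Z : Set A)) (h : phi Z F g = 1) :
    g ∈ F := hf.ker g hg ((phi_eq_one_iff g).mp h)

/-- The action on the section is completely reducible. -/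
theorem phi_cr [Finite A] (hf : Frame A V Z F L) :
    letI := sectionComm hf
    CRAut (phi Z F).range := by
  letI := sectionComm hf
  intro U hU
  let Ut : Subgroup A := (U.comap (QuotientGroup.mk' (Z.subgroupOf F))).map F.subtype
  have hUF : Ut ≤ F := Subgroup.map_subtype_le _
  have hmem : ∀ (y : F), (y : A) ∈ Ut ↔ QuotientGroup.mk y ∈ U := fun y => by
    refine ⟨?_, fun h => ⟨y, h, rfl⟩⟩
    rintro ⟨z, hz, e⟩
    exact Subtype.ext (show (z : A) = y from e) ▸ hz
  have hZU : Z ≤ Ut := fun z hz => (hmem ⟨z, hf.le hz⟩).mpr (by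
    rw [(QuotientGroup.eq_one_iff (⟨z, hf.le hz⟩ : F)).mpr hz]
    exact one_mem U)
  have hUn : ∀ g x : A, x ∈ Ut → g * x * g⁻¹ ∈ Ut := fun g x hx =>
    (hmem ⟨_, hf.normal.conj_mem x (hUF hx) g⟩).mpr
      (hU _ ⟨g, rfl⟩ (QuotientGroup.mk (⟨x, hUF hx⟩ : F)) ((hmem ⟨x, hUF hx⟩).mp hx))
  let P : Subgroup A := F ⊓ centralizer (Ut : Set A)
  have hPn : P.Normal := by
    haveI := centralizer_normal (Z := Ut) ⟨fun x hx g => hUn g x hx⟩
    exact inferInstance
  have hcap : Ut ⊓ P = Z := by
    haveI : Ut.Normal := ⟨fun x hx g => hUn g x hx⟩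
    haveI := hPn
    refine hf.base.maximal (Ut ⊓ P) inferInstance (fun a ha b hb => Subgroup.mem_centralizer_iff.mp hb.2.2 a ha.1) ?_
    exact fun z hz => ⟨hZU hz, hf.le hz, Subgroup.mem_centralizer_iff.mpr fun y hy =>
      (Subgroup.mem_centralizer_iff.mp (hf.cent (hUF hy)) z hz).symm⟩
  have hb : P.relIndex F ≤ Z.relIndex Ut := pair_bound hf.base hf.cent (hUF.trans hf.cent)
    (fun x hx y hy => hf.comm x hx y (hUF hy)) inferInstance
    (fun x hx z hz => hf.central_left (hf.cent hx) hz)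
    (fun x hx hc => ⟨hx, Subgroup.mem_centralizer_iff.mpr fun y hy => ((comm_eq_one_iff x y).mp (hc y hy)).symm⟩)
  let X : Subgroup (F ⧸ Z.subgroupOf F) := (P.subgroupOf F).map (QuotientGroup.mk' _)
  have hUX : U ⊓ X = ⊥ := by
    rw [eq_bot_iff]
    rintro _ ⟨hu, y, hy, rfl⟩
    exact Subgroup.mem_bot.mpr ((QuotientGroup.eq_one_iff y).mpr (hcap.le ⟨(hmem y).mpr hu, hy⟩))
  refine ⟨X, fun g hg x hx => ?_, hUX, ?_⟩
  · obtain ⟨a, rfl⟩ := hg
    obtain ⟨y, hy, rfl⟩ := hx
    exact ⟨MulAut.conjNormal a y, hPn.conj_mem _ hy a, rfl⟩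
  · have hcX : Nat.card X = Z.relIndex P := by
      have hsurj : Function.Surjective ((QuotientGroup.mk' (Z.subgroupOf F)).subgroupMap (P.subgroupOf F)) :=
        MonoidHom.subgroupMap_surjective _ _
      rw [← Nat.card_congr (QuotientGroup.quotientKerEquivOfSurjective _ hsurj).toEquiv,
        ← Subgroup.index_eq_card]
      have e : ((QuotientGroup.mk' (Z.subgroupOf F)).subgroupMap (P.subgroupOf F)).ker
          = (Z.subgroupOf F).subgroupOf (P.subgroupOf F) := by
        ext x
        rw [MonoidHom.mem_ker, Subgroup.mem_subgroupOf, ← QuotientGroup.eq_one_iff]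
        exact ⟨fun h => congrArg Subtype.val h, fun h => Subtype.ext h⟩
      rw [e]
      exact Subgroup.relIndex_subgroupOf inf_le_left
    have hcU : Nat.card U = Z.relIndex Ut := by
      let f := (QuotientGroup.mk' (Z.subgroupOf F)).subgroupMap (U.comap (QuotientGroup.mk' (Z.subgroupOf F)))
      have hmap : (U.comap (QuotientGroup.mk' (Z.subgroupOf F))).map (QuotientGroup.mk' (Z.subgroupOf F)) = U :=
        Subgroup.map_comap_eq_self_of_surjective (QuotientGroup.mk'_surjective _) U
      conv_lhs => rw [← hmap]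
      rw [← Nat.card_congr (QuotientGroup.quotientKerEquivOfSurjective f (MonoidHom.subgroupMap_surjective _ _)).toEquiv,
        ← Subgroup.index_eq_card]
      have e : f.ker = (Z.subgroupOf F).subgroupOf (U.comap (QuotientGroup.mk' (Z.subgroupOf F))) := by
        ext x
        rw [MonoidHom.mem_ker, Subgroup.mem_subgroupOf, ← QuotientGroup.eq_one_iff]
        exact ⟨fun h => congrArg Subtype.val h, fun h => Subtype.ext h⟩
      rw [e]
      have e2 : Ut.subgroupOf F = U.comap (QuotientGroup.mk' (Z.subgroupOf F)) := by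
        ext y
        exact hmem y
      rw [← e2]
      exact Subgroup.relIndex_subgroupOf hUF
    have hw : Z.relIndex P * P.relIndex F = Z.relIndex F := Subgroup.relIndex_mul_relIndex Z P F
      (fun z hz => ⟨hf.le hz, Subgroup.mem_centralizer_iff.mpr fun y hy =>
        (Subgroup.mem_centralizer_iff.mp (hf.cent (hUF hy)) z hz).symm⟩) inf_le_left
    let m : U × X → F ⧸ Z.subgroupOf F := fun p => (p.1 : F ⧸ Z.subgroupOf F) * p.2
    have hm : Function.Injective m := fun p q e => by
      have h1 : (q.1 : F ⧸ Z.subgroupOf F)⁻¹ * p.1 = q.2 * (p.2 : F ⧸ Z.subgroupOf F)⁻¹ := by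
        rw [eq_mul_inv_iff_mul_eq, mul_assoc, inv_mul_eq_iff_eq_mul]
        exact e
      have h2 : (q.1 : F ⧸ Z.subgroupOf F)⁻¹ * p.1 = 1 := Subgroup.mem_bot.mp (hUX.le
        ⟨U.mul_mem (U.inv_mem q.1.2) p.1.2, h1 ▸ X.mul_mem q.2.2 (X.inv_mem p.2.2)⟩)
      refine Prod.ext (Subtype.ext (inv_mul_eq_one.mp h2).symm) (Subtype.ext ?_)
      rw [h2] at h1
      exact (mul_inv_eq_one.mp h1.symm).symm
    have hb' := (Nat.bijective_iff_injective_and_card m).mpr ⟨hm, le_antisymm (Nat.card_le_card_of_injective m hm) (by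
      rw [Nat.card_prod, hcU, hcX]
      show Z.relIndex F ≤ _
      rw [← hw, Nat.mul_comm]
      exact Nat.mul_le_mul_right _ hb)⟩
    rw [eq_top_iff]
    intro x _
    obtain ⟨⟨u, v⟩, rfl⟩ := hb'.2 x
    exact Subgroup.mul_mem_sup u.2 v.2

end CfsgLib.OddBase
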