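import Mathlib

/-!
Pairs of vectors with trivial common stabilizer: definitions, elementary facts about groups of odd order.
-/

set_option autoImplicit false

namespace CfsgLib.OddBase

open Subgroup

universe u

variable (A V : Type u) [Group A] [AddCommGroup V] [DistribMulAction A V]

/-- Two vectors whose common stabilizer acts trivially. -/
def Pair : Prop := ∃ v w : V, ∀ a : A, a • v = v → a • w = w → ∀ x : V, a • x = x

/-- A subset mapped into itself by the group. -/
def Stable (U : AddSubgroup V) : Prop := ∀ a : A, ∀ v ∈ U, a • v ∈ U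

/-- Complete reducibility. -/
def CR : Prop := ∀ U : AddSubgroup V, Stable A V U → ∃ W : AddSubgroup V, Stable A V W ∧ U ⊓ W = ⊥ ∧ U ⊔ W = ⊤

/-- Irreducibility. -/
def Irr : Prop := (∃ x : V, x ≠ 0) ∧ ∀ U : AddSubgroup V, Stable A V U → U = ⊥ ∨ U = ⊤

omit A V in
/-- The inductive hypothesis: the theorem for groups of order less than `m`. -/
def IH (m : ℕ) : Prop :=
  ∀ (A V : Type u) [Group A] [Finite A] [AddCommGroup V] [Finite V] [DistribMulAction A V],
    Nat.card A < m → Odd (Nat.card A) → CR A V → Pair A V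

theorem Irr.cr (h : Irr A V) : CR A V := fun U hU => by
  rcases h.2 U hU with rfl | rfl
  · exact ⟨⊤, fun _ _ _ => trivial, bot_inf_eq _, bot_sup_eq _⟩
  · exact ⟨⊥, fun a v hv => by rw [AddSubgroup.mem_bot] at hv ⊢; rw [hv, smul_zero], inf_bot_eq _, sup_bot_eq _⟩

variable {A V}

theorem odd_orderOf {G : Type*} [Group G] (h : Odd (Nat.card G)) (g : G) : Odd (orderOf g) :=
  h.of_dvd_nat (orderOf_dvd_natCard g)

/-- In a group of odd order every element is a power of its square. -/
theorem mem_of_sq_mem {G : Type*} [Group G] (h : Odd (Nat.card G)) {S : Subgroup G} {g : G} (hg : g ^ 2 ∈ S) :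
    g ∈ S := by
  obtain ⟨k, hk⟩ := odd_orderOf h g
  have h1 : (g ^ 2) ^ (k + 1) = g := by
    rw [← pow_mul, show 2 * (k + 1) = orderOf g + 1 by omega, pow_succ, pow_orderOf_eq_one, one_mul]
  exact h1 ▸ S.pow_mem hg _

/-- The fixed-point set of an element fixed by the square is fixed by the element. -/
theorem smul_eq_of_sq {G X : Type*} [Group G] [MulAction G X] (h : Odd (Nat.card G)) {g : G} {x : X}
    (hg : g • g • x = x) : g • x = x :=
  mem_of_sq_mem h (S := MulAction.stabilizer G x) (g := g) (by rw [MulAction.mem_stabilizer_iff, sq, mul_smul, hg])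

/-- A non-trivial normal subgroup of a solvable group contains a minimal one, which is abelian. -/
theorem exists_minimal_abelian {G : Type*} [Group G] [Finite G] [Group.IsSolvable G] {N : Subgroup G}
    [N.Normal] (hN : N ≠ ⊥) :
    ∃ M : Subgroup G, M.Normal ∧ M ≤ N ∧ M ≠ ⊥ ∧ (∀ x ∈ M, ∀ y ∈ M, x * y = y * x) ∧
      ∀ L : Subgroup G, L.Normal → L ≤ M → L = ⊥ ∨ L = M := by
  haveI : WellFoundedLT (Subgroup G) := inferInstance
  obtain ⟨M, ⟨hMn, hMN, hM⟩, hmin⟩ := (wellFounded_lt : WellFounded (α := Subgroup G) (· < ·)).has_min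
    {M | M.Normal ∧ M ≤ N ∧ M ≠ ⊥} ⟨N, inferInstance, le_rfl, hN⟩
  haveI := hMn
  have hmin' : ∀ L : Subgroup G, L.Normal → L ≤ M → L = ⊥ ∨ L = M := fun L hL hle => by
    by_contra h
    push Not at h
    exact hmin L ⟨hL, hle.trans hMN, h.1⟩ (lt_of_le_of_ne hle h.2)
  have hlt := Group.IsSolvable.commutator_lt_of_ne_bot hM
  have hb : ⁅M, M⁆ = ⊥ := ((hmin' _ inferInstance hlt.le).resolve_right hlt.ne)
  exact ⟨M, hMn, hMN, hM, fun x hx y hy => Subgroup.mem_centralizer_iff.mp
    (Subgroup.commutator_eq_bot_iff_le_centralizer.mp hb hy) x hx, hmin'⟩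

end CfsgLib.OddBase
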