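import Cfsg.Agent.Lib.OddBase.Basic
import Cfsg.Agent.S0205

/-!
A group of odd order acting on a finite set has a subset whose stabilizer acts trivially, given pairs
with trivial common stabilizer for the smaller linear groups.
-/

set_option autoImplicit false

namespace CfsgLib.OddBase

open Subgroup MulAction

universe u

/-- A set whose stabilizer acts trivially. -/
def Coloured (G ι : Type u) [Group G] [MulAction G ι] : Prop :=
  ∃ S : Set ι, ∀ g : G, (∀ i : ι, g • i ∈ S ↔ i ∈ S) → ∀ i : ι, g • i = i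

/-- An orbit union and its complement are coloured separately. -/
theorem coloured_split {G ι : Type u} [Group G] [MulAction G ι] (O : Set ι) (hO : ∀ (g : G) i, g • i ∈ O ↔ i ∈ O)
    (h1 : ∀ (p : SubMulAction G ι), (∀ i, i ∈ p ↔ i ∈ O) → Coloured G p)
    (h2 : ∀ (p : SubMulAction G ι), (∀ i, i ∈ p ↔ i ∉ O) → Coloured G p) : Coloured G ι := by
  let p : SubMulAction G ι := ⟨O, fun g {i} hi => (hO g i).mpr hi⟩
  let q : SubMulAction G ι := ⟨Oᶜ, fun g {i} hi => fun h => hi ((hO g i).mp h)⟩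
  obtain ⟨S, hS⟩ := h1 p fun i => Iff.rfl
  obtain ⟨T, hT⟩ := h2 q fun i => Iff.rfl
  refine ⟨Subtype.val '' S ∪ Subtype.val '' T, fun g hg i => ?_⟩
  by_cases hi : i ∈ O
  · refine congrArg Subtype.val (hS g (fun j => ?_) ⟨i, hi⟩)
    have key : ∀ k : p, (k : ι) ∈ Subtype.val '' S ∪ Subtype.val '' T ↔ k ∈ S := fun k => by
      constructor
      · rintro (⟨k', hk', e⟩ | ⟨k', _, e⟩)
        · exact Subtype.ext e ▸ hk'
        · exact absurd (e ▸ k.2 : (k' : ι) ∈ O) k'.2
      · exact fun hk => Or.inl ⟨k, hk, rfl⟩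
    exact (key (g • j)).symm.trans ((hg (j : ι)).trans (key j))
  · refine congrArg Subtype.val (hT g (fun j => ?_) ⟨i, hi⟩)
    have key : ∀ k : q, (k : ι) ∈ Subtype.val '' S ∪ Subtype.val '' T ↔ k ∈ T := fun k => by
      constructor
      · rintro (⟨k', _, e⟩ | ⟨k', hk', e⟩)
        · exact absurd (e ▸ k'.2 : (k : ι) ∈ O) k.2
        · exact Subtype.ext e ▸ hk'
      · exact fun hk => Or.inr ⟨k, hk, rfl⟩
    exact (key (g • j)).symm.trans ((hg (j : ι)).trans (key j))

/-- Colour a block system, then each block by one of two inequivalent colourings. -/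
theorem coloured_blocks {G ι β : Type u} [Group G] [MulAction G ι] [MulAction G β] [IsPretransitive G β]
    (hodd : Odd (Nat.card G)) (π : ι → β) (hπ : ∀ (g : G) i, π (g • i) = g • π i) (b₀ : β) (hne : ∃ i, π i = b₀)
    (hβ : Coloured G β)
    (hB : ∀ p : SubMulAction (stabilizer G b₀) ι, (∀ i, i ∈ p ↔ π i = b₀) → Coloured (stabilizer G b₀) p) :
    Coloured G ι := by
  classical
  let p : SubMulAction (stabilizer G b₀) ι :=
    ⟨{i | π i = b₀}, fun g {i} (hi : π i = b₀) => show π ((g : G) • i) = b₀ by rw [hπ, hi]; exact g.2⟩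
  obtain ⟨S, hS⟩ := hB p fun i => Iff.rfl
  obtain ⟨T, hT⟩ := hβ
  choose t ht using fun b : β => exists_smul_eq G b₀ b
  have hmem : ∀ i : ι, π ((t (π i))⁻¹ • i) = b₀ := fun i => by rw [hπ, inv_smul_eq_iff]; exact (ht _).symm
  let c : ι → p := fun i => ⟨(t (π i))⁻¹ • i, hmem i⟩
  refine ⟨{i | (c i ∈ S ↔ π i ∈ T)}, fun g hg => ?_⟩
  have hh : ∀ b : β, (t (g • b))⁻¹ * g * t b ∈ stabilizer G b₀ := fun b => by
    rw [mem_stabilizer_iff, mul_smul, mul_smul, ht, inv_smul_eq_iff, ht]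
  have hc : ∀ i, c (g • i) = (⟨_, hh (π i)⟩ : stabilizer G b₀) • c i := fun i => Subtype.ext (by
    show (t (π (g • i)))⁻¹ • g • i = ((t (g • π i))⁻¹ * g * t (π i)) • (t (π i))⁻¹ • i
    rw [hπ, mul_smul, mul_smul, smul_inv_smul])
  have hlift : ∀ (b : β) (x : p), ∃ i, π i = b ∧ c i = x := fun b x => by
    have h1 : π (t b • (x : ι)) = b := by rw [hπ, show π (x : ι) = b₀ from x.2, ht]
    refine ⟨t b • (x : ι), h1, Subtype.ext ?_⟩
    show (t (π (t b • (x : ι))))⁻¹ • t b • (x : ι) = x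
    rw [h1, inv_smul_smul]
  have key : ∀ b (x : p), (((⟨_, hh b⟩ : stabilizer G b₀) • x ∈ S) ↔ g • b ∈ T) ↔ (x ∈ S ↔ b ∈ T) := by
    intro b x
    obtain ⟨i, rfl, rfl⟩ := hlift b x
    have h1 := hg i
    simp only [Set.mem_setOf_eq, hc, hπ] at h1
    exact h1
  have hodd' : Odd (Nat.card (stabilizer G b₀)) := hodd.of_dvd_nat (card_subgroup_dvd_card _)
  have hfix : ∀ b, (g • b ∈ T ↔ b ∈ T) := fun b => by
    by_contra hb
    let h : stabilizer G b₀ := ⟨_, hh b⟩
    have h1 : ∀ x : p, (h • x ∈ S) ↔ ¬ x ∈ S := fun x => by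
      have := key b x
      tauto
    have h2 : ∀ x : p, h • x = x := fun x => smul_eq_of_sq hodd' (by
      rw [← mul_smul]
      refine hS (h * h) (fun y => ?_) x
      rw [mul_smul, h1, h1, not_not])
    obtain ⟨i, hi⟩ := hne
    exact iff_not_self (h2 ⟨i, hi⟩ ▸ h1 ⟨i, hi⟩)
  intro i
  have hb : g • π i = π i := hT g hfix (π i)
  let h : stabilizer G b₀ := ⟨_, hh (π i)⟩
  have h1 : ∀ x : p, (h • x ∈ S) ↔ x ∈ S := fun x => by
    have := key (π i) x
    have := hfix (π i)
    tauto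
  have h2 := congrArg Subtype.val (hS h h1 (c i))
  simp only [h, c] at h2
  change ((t (g • π i))⁻¹ * g * t (π i)) • (t (π i))⁻¹ • i = (t (π i))⁻¹ • i at h2
  rw [hb, mul_smul, mul_smul, smul_inv_smul] at h2
  exact smul_left_cancel _ h2

theorem perm_four : ∀ σ : Fin 4 → Fin 4, Function.Injective σ →
    (σ 0 = 0 ∧ σ 1 = 1 ∨ σ 0 = 1 ∧ σ 1 = 0 ∨ σ 0 = 2 ∧ σ 1 = 3 ∨ σ 0 = 3 ∧ σ 1 = 2) →
    ∀ k, σ (σ (σ (σ k))) = k := by
  unfold Function.Injective
  decide +kernel

/-- A regular normal subgroup on which the point stabilizer acts irreducibly. -/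
theorem coloured_affine {G ι : Type u} [Group G] [Finite G] [MulAction G ι] [Finite ι] [FaithfulSMul G ι]
    (hodd : Odd (Nat.card G)) {N : Subgroup G} [N.Normal] (hab : ∀ x ∈ N, ∀ y ∈ N, x * y = y * x)
    (hmin : ∀ L : Subgroup G, L.Normal → L ≤ N → L = ⊥ ∨ L = N) (htr : ∀ i j : ι, ∃ n ∈ N, n • i = j)
    (i₀ : ι)
    (ih : IH.{u} (Nat.card (stabilizer G i₀) + 1)) : Coloured G ι := by
  classical
  let H := stabilizer G i₀
  haveI : IsMulCommutative N := ⟨⟨fun x y => Subtype.ext (hab x x.2 y y.2)⟩⟩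
  letI : CommGroup N := { (inferInstance : Group N) with mul_comm := fun x y => Subtype.ext (hab x x.2 y y.2) }
  letI : MulDistribMulAction H N :=
    MulDistribMulAction.compHom N ((MulAut.conjNormal : G →* MulAut N).comp H.subtype)
  letI : DistribMulAction H (Additive N) :=
    { smul := fun h x => Additive.ofMul (h • Additive.toMul x)
      one_smul := fun x => congrArg Additive.ofMul (one_smul H (Additive.toMul x))
      mul_smul := fun a b x => congrArg Additive.ofMul (mul_smul a b (Additive.toMul x))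
      smul_zero := fun a => congrArg Additive.ofMul (smul_one a)
      smul_add := fun a x y => congrArg Additive.ofMul (smul_mul' a (Additive.toMul x) (Additive.toMul y)) }
  have hcoe : ∀ (h : H) (x : N), ((h • x : N) : G) = (h : G) * x * (h : G)⁻¹ := fun h x => rfl
  -- free action of the normal subgroup
  have hfree : ∀ n ∈ N, n • i₀ = i₀ → n = 1 := fun n hn h => eq_of_smul_eq_smul (α := ι) fun i => by
    obtain ⟨m, hm, rfl⟩ := htr i₀ i
    rw [one_smul, ← mul_smul, hab n hn m hm, mul_smul, h]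
  have hinj : ∀ x y : N, (x : G) • i₀ = (y : G) • i₀ → x = y := fun x y h => by
    have h1 : y⁻¹ * x = 1 := Subtype.ext (hfree _ (y⁻¹ * x).2 (by
      push_cast
      rw [mul_smul, h, inv_smul_smul]))
    exact (inv_mul_eq_one.mp h1).symm
  have hirr : CR H (Additive N) := by
    intro U hU
    let L : Subgroup G := (AddSubgroup.toSubgroup' U).map N.subtype
    have hLN : L ≤ N := Subgroup.map_subtype_le _
    have hLn : L.Normal := ⟨fun x hx g => by
      obtain ⟨u, hu, rfl⟩ := hx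
      obtain ⟨n, hn, hni⟩ := htr i₀ (g • i₀)
      have hk : n⁻¹ * g ∈ H := by rw [mem_stabilizer_iff, mul_smul, ← hni, inv_smul_smul]
      refine ⟨(⟨_, hk⟩ : H) • u, hU ⟨_, hk⟩ (Additive.ofMul u) hu, ?_⟩
      rw [Subgroup.coe_subtype, hcoe]
      have h2 := hab n hn _ ((inferInstance : N.Normal).conj_mem _ u.2 (n⁻¹ * g))
      simp only [Subgroup.coe_subtype] at h2 ⊢
      calc n⁻¹ * g * ↑u * (n⁻¹ * g)⁻¹ = n * (n⁻¹ * g * ↑u * (n⁻¹ * g)⁻¹) * n⁻¹ := by rw [h2, mul_inv_cancel_right]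
        _ = g * ↑u * g⁻¹ := by group⟩
    rcases hmin L hLn hLN with h | h
    · have hUb : U = ⊥ := (eq_bot_iff).mpr fun x hx => by
        have hx' : ((Additive.toMul x : N) : G) ∈ L := ⟨_, hx, rfl⟩
        rw [h, Subgroup.mem_bot] at hx'
        exact Additive.toMul.injective (Subtype.ext hx')
      subst hUb
      exact ⟨⊤, fun _ _ _ => trivial, bot_inf_eq _, bot_sup_eq _⟩
    · have hUt : U = ⊤ := (eq_top_iff).mpr fun x _ => by
        obtain ⟨y, hy, e⟩ : ((Additive.toMul x : N) : G) ∈ L := h.ge (Additive.toMul x).2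
        have e' : Additive.ofMul y = x := congrArg Additive.ofMul (Subtype.ext e : y = Additive.toMul x)
        rw [← e']
        exact hy
      subst hUt
      exact ⟨⊥, fun a v hv => by rw [AddSubgroup.mem_bot] at hv ⊢; rw [hv, smul_zero], inf_bot_eq _, sup_bot_eq _⟩
  have hoddH : Odd (Nat.card H) := hodd.of_dvd_nat (card_subgroup_dvd_card _)
  obtain ⟨v', w', hvw⟩ := ih H (Additive N) (Nat.lt_succ_self _) hoddH hirr
  let v : N := Additive.toMul v'
  let w : N := Additive.toMul w'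
  -- an element fixing the base point and both translates is trivial
  have hbase : ∀ h : G, h • i₀ = i₀ → h * v * h⁻¹ = v → h * w * h⁻¹ = w → h = 1 := fun h hh hv hw => by
    have h1 : ∀ x : N, h * (x : G) * h⁻¹ = x := fun x =>
      congrArg (fun y => ((Additive.toMul y : N) : G))
        (hvw ⟨h, hh⟩ (congrArg Additive.ofMul (Subtype.ext hv)) (congrArg Additive.ofMul (Subtype.ext hw))
          (Additive.ofMul x))
    refine eq_of_smul_eq_smul (α := ι) fun i => ?_
    obtain ⟨n, hn, rfl⟩ := htr i₀ i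
    rw [one_smul, ← mul_smul, show h * n = n * h by
      have := h1 ⟨n, hn⟩
      exact mul_inv_eq_iff_eq_mul.mp this, mul_smul, hh]
  have hsolved : ∀ g : G, g • i₀ = i₀ → g • (v : G) • i₀ = (v : G) • i₀ → g • (w : G) • i₀ = (w : G) • i₀ →
      g = 1 := by
    intro g h0 hv hw
    have hx : ∀ x : N, g • (x : G) • i₀ = (x : G) • i₀ → g * x * g⁻¹ = x := fun x hx =>
      congrArg Subtype.val (hinj ⟨g * x * g⁻¹, (inferInstance : N.Normal).conj_mem _ x.2 g⟩ x (by
        show (g * (x : G) * g⁻¹) • i₀ = (x : G) • i₀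
        rw [mul_smul, mul_smul, show g⁻¹ • i₀ = i₀ by rw [inv_smul_eq_iff, h0], hx]))
    exact hbase g h0 (hx v hv) (hx w hw)
  by_cases hgen : v ≠ 1 ∧ w ≠ 1 ∧ v ≠ w ∧ v * w ≠ 1
  swap
  · -- one translate suffices
    obtain ⟨x, hx⟩ : ∃ x : N, ∀ g : G, g • i₀ = i₀ → g • (x : G) • i₀ = (x : G) • i₀ → g = 1 := by
      by_cases hv1 : v = 1
      · exact ⟨w, fun g h0 hw => hsolved g h0 (by rw [hv1]; simpa using h0) hw⟩
      refine ⟨v, fun g h0 hv => hsolved g h0 hv ?_⟩
      have hgv : g * v * g⁻¹ = v := congrArg Subtype.val (hinj ⟨g * v * g⁻¹,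
        (inferInstance : N.Normal).conj_mem _ v.2 g⟩ v (by
          show (g * (v : G) * g⁻¹) • i₀ = (v : G) • i₀
          rw [mul_smul, mul_smul, show g⁻¹ • i₀ = i₀ by rw [inv_smul_eq_iff, h0], hv]))
      have hgw : g * w * g⁻¹ = w := by
        push Not at hgen
        by_cases hw1 : w = 1
        · rw [hw1]; simp
        by_cases hvw1 : v = w
        · rw [← hvw1]; exact hgv
        · have : (w : G) = (v : G)⁻¹ := by
            have := congrArg Subtype.val (hgen hv1 hw1 hvw1)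
            push_cast at this
            exact eq_inv_of_mul_eq_one_right this
          rw [this]
          conv_rhs => rw [← hgv]
          group
      rw [← mul_smul, show g * (w : G) = (w : G) * g from mul_inv_eq_iff_eq_mul.mp hgw, mul_smul, h0]
    refine ⟨{i₀, (x : G) • i₀}, fun g hg i => ?_⟩
    suffices g = 1 by rw [this, one_smul]
    have h1 : g • i₀ = i₀ ∨ g • i₀ = (x : G) • i₀ := by simpa using (hg i₀).mpr (Or.inl rfl)
    have h2 : g • (x : G) • i₀ = i₀ ∨ g • (x : G) • i₀ = (x : G) • i₀ := by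
      simpa using (hg ((x : G) • i₀)).mpr (Or.inr rfl)
    have h0 : g • i₀ = i₀ := by
      rcases h1 with h | h
      · exact h
      rcases h2 with h' | h'
      · exact smul_eq_of_sq hodd (by rw [h, h'])
      · have hx0 : i₀ = (x : G) • i₀ := smul_left_cancel g (h.trans h'.symm)
        exact h.trans hx0.symm
    refine hx g h0 ?_
    rcases h2 with h | h
    · have hx0 : (x : G) • i₀ = i₀ := smul_left_cancel g (h.trans h0.symm)
      rw [hx0, h0]
    · exact h
  -- the parallelogram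
  obtain ⟨hv1, hw1, hvw1, hprod⟩ := hgen
  let Q : Fin 4 → N := ![1, v * w, v, w]
  have hQ : Function.Injective Q := by
    intro k l
    fin_cases k <;> fin_cases l <;> simp [Q, hv1, hw1, hvw1, hprod, Ne.symm hv1, Ne.symm hw1, Ne.symm hvw1, Ne.symm hprod]
  refine ⟨Set.range fun k => (Q k : G) • i₀, fun g hg => ?_⟩
  suffices g = 1 by intro i; rw [this, one_smul]
  have hσ : ∀ k, ∃ l, (Q l : G) • i₀ = g • (Q k : G) • i₀ := fun k => (hg _).mpr ⟨k, rfl⟩
  choose σ hσ using hσ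
  have hσinj : Function.Injective σ := fun k l h => hQ (hinj _ _ (smul_left_cancel g (by rw [← hσ, ← hσ, h])))
  obtain ⟨n, hn, hng⟩ := htr i₀ (g • i₀)
  let e : G := n⁻¹ * g
  have he : e • i₀ = i₀ := by rw [show e = n⁻¹ * g from rfl, mul_smul, ← hng, inv_smul_smul]
  have himg : ∀ k, Q (σ k) = ⟨n, hn⟩ * (⟨e, he⟩ : H) • Q k := fun k => hinj _ _ (by
    rw [hσ, Subgroup.coe_mul, hcoe, mul_smul, mul_smul, mul_smul,
      show e⁻¹ • i₀ = i₀ by rw [inv_smul_eq_iff, he]]
    show g • _ = n • (n⁻¹ * g) • _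
    rw [mul_smul, smul_inv_smul])
  have h01 : Q (σ 0) * Q (σ 1) = v * w := by
    have hrel : Q (σ 0) * Q (σ 1) = Q (σ 2) * Q (σ 3) := by
      rw [himg, himg, himg, himg]
      simp only [Q, Matrix.cons_val_zero, Matrix.cons_val_one, Matrix.cons_val, smul_one, smul_mul', mul_one]
      simp only [mul_assoc, mul_left_comm]
    have hall : ∏ k, Q (σ k) = ∏ k, Q k :=
      Equiv.prod_comp (Equiv.ofBijective σ (Finite.injective_iff_bijective.mp hσinj)) Q
    rw [Fin.prod_univ_four, Fin.prod_univ_four, mul_assoc, ← hrel] at hall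
    simp only [Q, Matrix.cons_val_zero, Matrix.cons_val_one, Matrix.cons_val, one_mul] at hall
    rw [mul_assoc (v * w)] at hall
    have hoddN : Odd (Nat.card N) := hodd.of_dvd_nat (card_subgroup_dvd_card _)
    generalize Q (σ 0) * Q (σ 1) = y at hall
    refine eq_of_inv_mul_eq_one (Subgroup.mem_bot.mp (mem_of_sq_mem hoddN (Subgroup.mem_bot.mpr ?_))) |>.symm
    rw [mul_pow, inv_pow, sq, sq, ← hall, inv_mul_cancel]
  have hpair : σ 0 = 0 ∧ σ 1 = 1 ∨ σ 0 = 1 ∧ σ 1 = 0 ∨ σ 0 = 2 ∧ σ 1 = 3 ∨ σ 0 = 3 ∧ σ 1 = 2 := by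
    generalize σ 0 = a at h01 ⊢
    have hcan : ∀ b, Q a * Q (σ 1) = Q a * Q b → σ 1 = b := fun b h => hQ (mul_left_cancel h)
    fin_cases a
    · exact Or.inl ⟨rfl, hcan 1 (h01.trans (by simp [Q]))⟩
    · exact Or.inr (Or.inl ⟨rfl, hcan 0 (h01.trans (by simp [Q]))⟩)
    · exact Or.inr (Or.inr (Or.inl ⟨rfl, hcan 3 (h01.trans (by simp [Q]))⟩))
    · exact Or.inr (Or.inr (Or.inr ⟨rfl, hcan 2 (h01.trans (by simp [Q, mul_comm]))⟩))
  have h4 : ∀ k, σ (σ (σ (σ k))) = k := perm_four σ hσinj hpair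
  have hg4 : g ^ 4 = 1 := by
    have h5 : ∀ k, g ^ 4 • (Q k : G) • i₀ = (Q k : G) • i₀ := fun k => by
      rw [show g ^ 4 = g * (g * (g * g)) by simp [pow_succ, mul_assoc], mul_smul, mul_smul, mul_smul, ← hσ, ← hσ, ← hσ,
        ← hσ, h4]
    exact hsolved _ (by simpa [Q] using h5 0) (by simpa [Q] using h5 2) (by simpa [Q] using h5 3)
  refine Subgroup.mem_bot.mp (mem_of_sq_mem hodd (mem_of_sq_mem hodd (Subgroup.mem_bot.mpr ?_)))
  rw [← pow_mul, hg4]

/-- A group of odd order has a subset with trivially acting stabilizer on any finite set. -/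
theorem coloured_of_IH {M : ℕ} (hM : IH.{u} M) : ∀ (k : ℕ) (G ι : Type u) [Group G] [Finite G] [MulAction G ι]
    [Finite ι], Nat.card ι = k → Nat.card G ≤ M → Odd (Nat.card G) → Coloured G ι := by
  intro k
  induction k using Nat.strong_induction_on with
  | _ k ihk =>
  intro G ι _ _ _ _ hk hGM hodd
  classical
  by_cases hsub : Subsingleton ι
  · exact ⟨∅, fun g _ i => Subsingleton.elim _ _⟩
  rw [not_subsingleton_iff_nontrivial] at hsub
  by_cases htrans : IsPretransitive G ι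
  swap
  · obtain ⟨i₀⟩ : Nonempty ι := inferInstance
    have hO : ∀ (g : G) i, g • i ∈ orbit G i₀ ↔ i ∈ orbit G i₀ := fun g i => by
      rw [← orbit_eq_iff, orbit_smul, orbit_eq_iff]
    have hlt : ∀ s : Set ι, s ≠ Set.univ → Nat.card s < k := fun s hs => hk ▸ by
      rw [Nat.card_coe_set_eq, ← Set.ncard_univ]
      exact Set.ncard_lt_ncard (Set.ssubset_univ_iff.mpr hs)
    refine coloured_split (orbit G i₀) hO (fun p hp => ?_) fun p hp => ?_
    · refine ihk _ (hlt p fun h => htrans ⟨fun x y => ?_⟩) G p rfl hGM hodd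
      obtain ⟨a, rfl⟩ := (hp x).mp (h.ge trivial)
      obtain ⟨b, rfl⟩ := (hp y).mp (h.ge trivial)
      exact ⟨b * a⁻¹, by rw [mul_smul, inv_smul_smul]⟩
    · exact ihk _ (hlt p fun h => (hp i₀).mp (h.ge trivial) (mem_orbit_self i₀)) G p rfl hGM hodd
  let Gb : Subgroup (Equiv.Perm ι) := (MulAction.toPermHom G ι).range
  suffices h : Coloured Gb ι by
    obtain ⟨S, hS⟩ := h
    exact ⟨S, fun g hg i => hS ⟨_, g, rfl⟩ hg i⟩
  have hGb : Nat.card Gb ∣ Nat.card G := Subgroup.card_dvd_of_surjective _ (MulAction.toPermHom G ι).rangeRestrict_surjective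
  have hGbM : Nat.card Gb ≤ M := (Nat.le_of_dvd Nat.card_pos hGb).trans hGM
  have hodd' : Odd (Nat.card Gb) := hodd.of_dvd_nat hGb
  haveI : IsPretransitive Gb ι := ⟨fun x y => by
    obtain ⟨g, hg⟩ := exists_smul_eq G x y
    exact ⟨⟨_, g, rfl⟩, hg⟩⟩
  haveI : Nontrivial Gb := by
    obtain ⟨x, y, hxy⟩ := hsub
    obtain ⟨g, hg⟩ := exists_smul_eq Gb x y
    exact ⟨⟨g, 1, fun h => hxy (by rw [← hg, h, one_smul])⟩⟩
  haveI : Group.IsSolvable Gb := Cfsg.Agent.S0205.result hodd'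
  obtain ⟨N, hNn, -, hN, hab, hmin⟩ := exists_minimal_abelian (G := Gb) (N := ⊤) top_ne_bot
  haveI := hNn
  obtain ⟨i₀⟩ : Nonempty ι := inferInstance
  by_cases hNt : ∀ i j : ι, ∃ n ∈ N, n • i = j
  · refine coloured_affine hodd' hab hmin hNt i₀ fun A V _ _ _ _ _ hA => hM A V ?_
    have hlt : Nat.card (stabilizer Gb i₀) < Nat.card Gb := by
      refine lt_of_le_of_ne (Subgroup.card_le_card_group _) fun h => ?_
      have htop := Subgroup.eq_top_of_card_eq _ h
      obtain ⟨x, y, hxy⟩ := hsub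
      obtain ⟨g, hg⟩ := exists_smul_eq Gb i₀ x
      obtain ⟨g', hg'⟩ := exists_smul_eq Gb i₀ y
      have e1 : g • i₀ = i₀ := mem_stabilizer_iff.mp (htop ▸ Subgroup.mem_top g)
      have e2 : g' • i₀ = i₀ := mem_stabilizer_iff.mp (htop ▸ Subgroup.mem_top g')
      exact hxy (hg.symm.trans (e1.trans (e2.symm.trans hg')))
    omega
  -- the orbits of the normal subgroup are blocks
  let r : Setoid ι := orbitRel N ι
  have hr : ∀ (g : Gb) {x y : ι}, r x y → r (g • x) (g • y) := by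
    rintro g x y ⟨n, rfl⟩
    exact ⟨⟨g * n * g⁻¹, hNn.conj_mem _ n.2 g⟩, show ((g * n * g⁻¹ : Gb)) • g • y = g • (n : Gb) • y by
      rw [mul_smul, mul_smul, inv_smul_smul]⟩
  letI : MulAction Gb (Quotient r) :=
    { smul := fun g => Quotient.map' (g • ·) fun x y h => hr g h
      one_smul := fun q => Quotient.inductionOn' q fun x => congrArg (Quotient.mk r) (one_smul _ x)
      mul_smul := fun a b q => Quotient.inductionOn' q fun x => congrArg (Quotient.mk r) (mul_smul a b x) }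
  haveI : IsPretransitive Gb (Quotient r) := ⟨fun a b => Quotient.inductionOn₂' a b fun x y => by
    obtain ⟨g, hg⟩ := exists_smul_eq Gb x y
    exact ⟨g, congrArg (Quotient.mk r) hg⟩⟩
  obtain ⟨n, hn, hn1⟩ := N.ne_bot_iff_exists_ne_one.mp hN |> fun ⟨x, hx⟩ => (⟨x, x.2, fun h => hx (Subtype.ext h)⟩ :
    ∃ n : Gb, n ∈ N ∧ n ≠ 1)
  obtain ⟨i, hi⟩ : ∃ i : ι, n • i ≠ i := by
    by_contra h
    push Not at h
    exact hn1 (eq_of_smul_eq_smul (α := ι) fun i => by rw [one_smul, h i])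
  have hquot : Nat.card (Quotient r) < k := by
    rw [← hk]
    refine lt_of_le_of_ne (Nat.card_le_card_of_surjective _ Quotient.mk''_surjective) fun h => hi ?_
    have hb := (Nat.bijective_iff_surjective_and_card (Quotient.mk'' : ι → Quotient r)).mpr
      ⟨Quotient.mk''_surjective, h.symm⟩
    exact hb.1 (Quotient.sound' ⟨⟨n, hn⟩, rfl⟩)
  refine coloured_blocks hodd' (Quotient.mk r) (fun g x => rfl) (Quotient.mk r i₀) ⟨i₀, rfl⟩
    (ihk _ hquot Gb (Quotient r) rfl hGbM hodd') fun p hp => ?_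
  refine ihk _ ?_ _ p rfl ((Subgroup.card_le_card_group _).trans hGbM) (hodd'.of_dvd_nat (card_subgroup_dvd_card _))
  rw [← hk]
  refine lt_of_le_of_ne (Nat.card_le_card_of_injective _ Subtype.val_injective) fun h => hNt fun x y => ?_
  have hb := (Nat.bijective_iff_injective_and_card (Subtype.val : p → ι)).mpr ⟨Subtype.val_injective, h⟩
  obtain ⟨x', rfl⟩ := hb.2 x
  obtain ⟨y', rfl⟩ := hb.2 y
  obtain ⟨m, hm⟩ := Quotient.exact (((hp _).mp y'.2).trans ((hp _).mp x'.2).symm)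
  exact ⟨m, m.2, hm⟩

end CfsgLib.OddBase
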