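import Cfsg.Agent.Lib.OddBase.Blocks

/-!
Bounds for the fixed points of elements acting semilinearly over the field generated by a normal abelian
subgroup.
-/

set_option autoImplicit false

namespace CfsgLib.OddBase

open Subgroup
open scoped commutatorElement

universe u

variable {A V : Type u} [Group A] [AddCommGroup V] [DistribMulAction A V]

/-- The fixed points of an element. -/
def Fx (g : A) : AddSubgroup V where
  carrier := {x | g • x = x}
  zero_mem' := smul_zero g
  add_mem' {x y} hx hy := by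
    show g • (x + y) = x + y
    rw [smul_add, show g • x = x from hx, show g • y = y from hy]
  neg_mem' {x} hx := by
    show g • (-x) = -x
    rw [smul_neg, show g • x = x from hx]

variable (V) in
/-- The number of fixed points. -/
noncomputable def fc (g : A) : ℕ := Nat.card (Fx (V := V) g)

theorem fc_conj (g y : A) : fc V (y * g * y⁻¹) = fc V g := by
  refine Nat.card_congr ⟨fun x => ⟨y⁻¹ • x.1, ?_⟩, fun x => ⟨y • x.1, ?_⟩, fun x => Subtype.ext ?_,
    fun x => Subtype.ext ?_⟩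
  · show g • y⁻¹ • x.1 = y⁻¹ • x.1
    have hx : (y * g * y⁻¹) • x.1 = x.1 := x.2
    rw [mul_smul, mul_smul] at hx
    exact eq_inv_smul_iff.mpr hx
  · show (y * g * y⁻¹) • y • x.1 = y • x.1
    rw [mul_smul, inv_smul_smul, mul_smul, show g • x.1 = x.1 from x.2]
  · simp
  · simp

/-- The setting: an abelian normal subgroup generating a field. -/
structure Setup (A V : Type u) [Group A] [AddCommGroup V] [DistribMulAction A V] (Z : Subgroup A) : Prop where
  faith : FaithfulSMul A V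
  normal : Z.Normal
  comm : ∀ x ∈ Z, ∀ y ∈ Z, x * y = y * x
  field : IsField (genRing (V := V) Z)
  maximal : ∀ L : Subgroup A, L.Normal → (∀ x ∈ L, ∀ y ∈ L, x * y = y * x) → Z ≤ L → L = Z

variable {Z : Subgroup A}

theorem rho_mem {z : A} (hz : z ∈ Z) : (rho z : AddMonoid.End V) ∈ genRing (V := V) Z :=
  Subring.subset_closure ⟨z, hz, rfl⟩

/-- Elements centralizing the subgroup are linear. -/
theorem linear_of_mem {g : A} (hg : g ∈ centralizer (Z : Set A)) {r : AddMonoid.End V}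
    (hr : r ∈ genRing (V := V) Z) (x : V) : g • r x = r (g • x) := by
  suffices h : rho g * r = r * rho g from DFunLike.congr_fun h x
  induction hr using Subring.closure_induction with
  | mem y hy =>
    obtain ⟨m, hm, rfl⟩ := hy
    rw [← map_mul, ← map_mul, (Subgroup.mem_centralizer_iff.mp hg m hm).symm]
  | zero => simp
  | one => simp
  | add y z _ _ h1 h2 => rw [mul_add, add_mul, h1, h2]
  | neg y _ h1 => rw [mul_neg, neg_mul, h1]
  | mul y z _ _ h1 h2 => rw [← mul_assoc, h1, mul_assoc, h2, mul_assoc]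

theorem centralizer_normal (hZ : Z.Normal) : (centralizer (Z : Set A)).Normal :=
  ⟨fun g hg a => Subgroup.mem_centralizer_iff.mpr fun z hz => by
    have := Subgroup.mem_centralizer_iff.mp hg _ (hZ.conj_mem z hz a⁻¹)
    simp only [inv_inv] at this
    calc z * (a * g * a⁻¹) = a * ((a⁻¹ * z * a) * g) * a⁻¹ := by group
      _ = a * g * a⁻¹ * z := by rw [this]; group⟩

namespace Setup

theorem le_centralizer (h : Setup A V Z) : Z ≤ centralizer (Z : Set A) :=
  fun z hz => Subgroup.mem_centralizer_iff.mpr fun y hy => h.comm y hy z hz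

theorem rho_inj (h : Setup A V Z) {a b : A} (e : (rho a : AddMonoid.End V) = rho b) : a = b := by
  haveI := h.faith
  exact eq_of_smul_eq_smul fun x : V => DFunLike.congr_fun e x

/-- A non-zero scalar kills only zero. -/
theorem eq_zero (h : Setup A V Z) {r : AddMonoid.End V} (hr : r ∈ genRing (V := V) Z) (h0 : r ≠ 0) {v : V}
    (hv : r v = 0) : v = 0 := by
  obtain ⟨s, hs⟩ := h.field.mul_inv_cancel (a := ⟨r, hr⟩) fun e => h0 (congrArg Subtype.val e)
  have hs' : r * s.1 = 1 := congrArg Subtype.val hs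
  have hc : s.1 * r = r * s.1 := congrArg Subtype.val (h.field.mul_comm s ⟨r, hr⟩)
  calc v = (r * s.1 : AddMonoid.End V) v := by rw [hs']; rfl
    _ = (s.1 * r : AddMonoid.End V) v := by rw [hc]
    _ = s.1 (r v) := rfl
    _ = 0 := by rw [hv, map_zero]

/-- A central element with a non-zero fixed vector is trivial. -/
theorem fx_center (h : Setup A V Z) {z : A} (hz : z ∈ Z) (hz1 : z ≠ 1) {v : V} (hv : z • v = v) : v = 0 :=
  h.eq_zero (sub_mem (rho_mem hz) (one_mem _))
    (sub_ne_zero.mpr fun e => hz1 (h.rho_inj (e.trans (map_one _).symm))) (by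
      show z • v - v = 0
      rw [hv, sub_self])

theorem fc_center (h : Setup A V Z) {z : A} (hz : z ∈ Z) (hz1 : z ≠ 1) : fc V z = 1 := by
  haveI : Subsingleton (Fx (V := V) z) := ⟨fun x y => Subtype.ext (by
    rw [h.fx_center hz hz1 x.2, h.fx_center hz hz1 y.2])⟩
  exact Nat.card_unique

variable [Finite V]

/-- Three elements of one coset of the subgroup. -/
theorem three (h : Setup A V Z) {g : A} (hg : g ∈ centralizer (Z : Set A)) {z₀ z₁ z₂ : A} (h0 : z₀ ∈ Z)
    (h1 : z₁ ∈ Z) (h2 : z₂ ∈ Z) (h01 : z₀ ≠ z₁) (h02 : z₀ ≠ z₂) (h12 : z₁ ≠ z₂) :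
    fc V (g * z₀) * fc V (g * z₁) * fc V (g * z₂) ≤ Nat.card V := by
  rw [fc, fc, fc, ← Nat.card_prod, ← Nat.card_prod]
  let r : A → AddMonoid.End V := fun z => rho z⁻¹
  have hr : ∀ z ∈ Z, r z ∈ genRing (V := V) Z := fun z hz => rho_mem (inv_mem hz)
  have heig : ∀ z ∈ Z, ∀ x : V, (g * z) • x = x → g • x = r z x := fun z hz x hx => by
    show g • x = z⁻¹ • x
    rw [eq_inv_smul_iff, ← mul_smul, Subgroup.mem_centralizer_iff.mp hg z hz, hx]
  have hne : ∀ z z' : A, z ≠ z' → r z - r z' ≠ 0 := fun z z' hzz =>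
    sub_ne_zero.mpr fun e => hzz (inv_injective (h.rho_inj e))
  let φ : (Fx (V := V) (g * z₀) × Fx (V := V) (g * z₁)) × Fx (V := V) (g * z₂) →+ V :=
    { toFun := fun x => (x.1.1 : V) + x.1.2 + x.2
      map_zero' := by simp
      map_add' := fun x y => by simp only [Prod.fst_add, Prod.snd_add, AddSubgroup.coe_add]; abel }
  refine Nat.card_le_card_of_injective φ ((injective_iff_map_eq_zero φ).mpr ?_)
  rintro ⟨⟨⟨a, ha⟩, ⟨b, hb⟩⟩, ⟨c, hc⟩⟩ (hs : a + b + c = 0)
  have ea := heig z₀ h0 a ha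
  have eb := heig z₁ h1 b hb
  have ec := heig z₂ h2 c hc
  have e1 : (r z₁ - r z₀) b + (r z₂ - r z₀) c = 0 := by
    have := congrArg (fun x => g • x) hs
    simp only [smul_add, smul_zero, ea, eb, ec] at this
    show r z₁ b - r z₀ b + (r z₂ c - r z₀ c) = 0
    have h3 : r z₀ a + r z₀ b + r z₀ c = 0 := by rw [← map_add, ← map_add, hs, map_zero]
    calc r z₁ b - r z₀ b + (r z₂ c - r z₀ c)
        = (r z₀ a + r z₁ b + r z₂ c) - (r z₀ a + r z₀ b + r z₀ c) := by abel
      _ = 0 := by rw [this, h3, sub_zero]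
  have hR1 : r z₁ - r z₀ ∈ genRing (V := V) Z := sub_mem (hr _ h1) (hr _ h0)
  have hR2 : r z₂ - r z₀ ∈ genRing (V := V) Z := sub_mem (hr _ h2) (hr _ h0)
  have e2 : (r z₂ - r z₁) ((r z₂ - r z₀) c) = 0 := by
    have := congrArg (fun x => g • x) e1
    simp only [smul_add, smul_zero, linear_of_mem hg hR1, linear_of_mem hg hR2, eb, ec] at this
    have hcm : ∀ (s : AddMonoid.End V), s ∈ genRing (V := V) Z → ∀ (z : A), z ∈ Z → ∀ x, s (r z x) = r z (s x) :=
      fun s hs z hz x => DFunLike.congr_fun (congrArg Subtype.val (h.field.mul_comm ⟨s, hs⟩ ⟨r z, hr z hz⟩)) x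
    rw [hcm _ hR1 _ h1, hcm _ hR2 _ h2] at this
    have e3 : r z₁ ((r z₁ - r z₀) b) + r z₁ ((r z₂ - r z₀) c) = 0 := by rw [← map_add, e1, map_zero]
    show r z₂ _ - r z₁ _ = 0
    calc r z₂ ((r z₂ - r z₀) c) - r z₁ ((r z₂ - r z₀) c)
        = (r z₁ ((r z₁ - r z₀) b) + r z₂ ((r z₂ - r z₀) c))
          - (r z₁ ((r z₁ - r z₀) b) + r z₁ ((r z₂ - r z₀) c)) := by abel
      _ = 0 := by rw [this, e3, sub_zero]
  have hc0 : c = 0 := h.eq_zero hR2 (hne _ _ (Ne.symm h02))
    (h.eq_zero (sub_mem (hr _ h2) (hr _ h1)) (hne _ _ (Ne.symm h12)) e2)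
  have hb0 : b = 0 := h.eq_zero hR1 (hne _ _ (Ne.symm h01)) (by simpa [hc0] using e1)
  have ha0 : a = 0 := by simpa [hb0, hc0] using hs
  simp [Prod.ext_iff, ha0, hb0, hc0]

/-- An element moved by a linear one inside its coset. -/
theorem fc_pow_three_of_comm (h : Setup A V Z) (hodd : Odd (Nat.card A)) {g y : A} (hg : g ∈ centralizer (Z : Set A))
    (hy : y ∈ centralizer (Z : Set A)) (hz : g⁻¹ * (y * g * y⁻¹) ∈ Z) (hne : y * g * y⁻¹ ≠ g) :
    fc V g ^ 3 ≤ Nat.card V := by
  set z := g⁻¹ * (y * g * y⁻¹) with hzdef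
  have e1 : g * z = y * g * y⁻¹ := by rw [hzdef, mul_inv_cancel_left]
  have e2 : g * (z * z) = (y * y) * g * (y * y)⁻¹ := by
    have hyz : y * z * y⁻¹ = z := by rw [← Subgroup.mem_centralizer_iff.mp hy z hz, mul_inv_cancel_right]
    calc g * (z * z) = (y * g * y⁻¹) * (y * z * y⁻¹) := by rw [← mul_assoc, e1, hyz]
      _ = y * (g * z) * y⁻¹ := by group
      _ = (y * y) * g * (y * y)⁻¹ := by rw [e1]; group
  have hz1 : (1 : A) ≠ z := fun e => hne (by rw [← e1, ← e, mul_one])
  have hzz : (1 : A) ≠ z * z := fun e => hz1 (Subgroup.mem_bot.mp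
    (mem_of_sq_mem hodd (S := ⊥) (g := z) (Subgroup.mem_bot.mpr (by rw [sq, ← e])))).symm
  have h12 : z ≠ z * z := fun e => hz1 (mul_eq_left.mp e.symm).symm
  have := h.three hg (one_mem Z) hz (mul_mem hz hz) hz1 hzz h12
  rw [mul_one, e1, e2, fc_conj, fc_conj] at this
  rwa [pow_three', ]

/-- A semilinear element. -/
theorem fc_pow_three_of_semilinear [Z.Normal] (h : Setup A V Z) (hodd : Odd (Nat.card A)) {g : A} (hg : g ∉ centralizer (Z : Set A)) :
    fc V g ^ 3 ≤ Nat.card V := by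
  obtain ⟨z, hz, hgz⟩ : ∃ z ∈ Z, g * z * g⁻¹ ≠ z := by
    by_contra hcon
    push Not at hcon
    exact hg (Subgroup.mem_centralizer_iff.mpr fun z hz => (mul_inv_eq_iff_eq_mul.mp (hcon z hz)).symm)
  set z₁ := g * z * g⁻¹ with hz₁
  set z₂ := g * z₁ * g⁻¹ with hz₂
  have h1 : z₁ ∈ Z := h.normal.conj_mem z hz g
  have h2 : z₂ ∈ Z := h.normal.conj_mem z₁ h1 g
  have h02 : z₂ ≠ z := fun e => hgz (by
    have hmem : g ∈ centralizer ({z} : Set A) := mem_of_sq_mem hodd (Subgroup.mem_centralizer_singleton_iff.mpr (by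
      rw [sq, ← mul_inv_eq_iff_eq_mul]
      calc g * g * z * (g * g)⁻¹ = z₂ := by rw [hz₂, hz₁]; group
        _ = z := e))
    rw [mul_inv_eq_iff_eq_mul]
    exact Subgroup.mem_centralizer_singleton_iff.mp hmem)
  have h12 : z₂ ≠ z₁ := fun e => hgz (mul_left_cancel (mul_right_cancel e))
  rw [pow_three', fc, ← Nat.card_prod, ← Nat.card_prod]
  let φ : (Fx (V := V) g × Fx (V := V) g) × Fx (V := V) g →+ V :=
    { toFun := fun x => (x.1.1 : V) + z • (x.1.2 : V) + z • z • (x.2 : V)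
      map_zero' := by simp
      map_add' := fun x y => by simp only [Prod.fst_add, Prod.snd_add, AddSubgroup.coe_add, smul_add]; abel }
  refine Nat.card_le_card_of_injective φ ((injective_iff_map_eq_zero φ).mpr ?_)
  rintro ⟨⟨⟨a, ha⟩, ⟨b, hb⟩⟩, ⟨c, hc⟩⟩ (hs : a + z • b + z • z • c = 0)
  have hmove : ∀ (u : A) (x : V), g • x = x → g • u • x = (g * u * g⁻¹) • x := fun u x hx => by
    conv_rhs => rw [mul_smul, mul_smul, show g⁻¹ • x = x by rw [inv_smul_eq_iff, hx]]
  have hmove2 : ∀ (u : A) (x : V), g • x = x → g • u • u • x = (g * u * g⁻¹) • (g * u * g⁻¹) • x := fun u x hx => by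
    rw [← hmove u x hx, mul_smul, mul_smul, inv_smul_smul]
  have hs1 : a + z₁ • b + z₁ • z₁ • c = 0 := by
    have h' := congrArg (fun x => g • x) hs
    simp only [smul_add, smul_zero] at h'
    rw [show g • a = a from ha, hmove z b hb, hmove2 z c hc] at h'
    exact h'
  have hs2 : a + z₂ • b + z₂ • z₂ • c = 0 := by
    have h' := congrArg (fun x => g • x) hs1
    simp only [smul_add, smul_zero] at h'
    rw [show g • a = a from ha, hmove z₁ b hb, hmove2 z₁ c hc] at h'
    exact h'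
  -- factor the differences
  have key : ∀ u w : A, u ∈ Z → w ∈ Z → u ≠ w → a + u • b + u • u • c = 0 → a + w • b + w • w • c = 0 →
      b + u • c + w • c = 0 := by
    intro u w hu hw huw eu ew
    refine h.eq_zero (sub_mem (rho_mem hu) (rho_mem hw))
      (sub_ne_zero.mpr fun e => huw (h.rho_inj e)) ?_
    show u • (b + u • c + w • c) - w • (b + u • c + w • c) = 0
    rw [smul_add, smul_add, smul_add, smul_add, ← mul_smul u w, ← mul_smul w u, h.comm u hu w hw]
    calc u • b + u • u • c + (w * u) • c - (w • b + (w * u) • c + w • w • c)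
        = (a + u • b + u • u • c) - (a + w • b + w • w • c) := by abel
      _ = 0 := by rw [eu, ew, sub_zero]
  have k1 := key z₁ z h1 hz hgz hs1 hs
  have k2 := key z₂ z h2 hz h02 hs2 hs
  have hc0 : c = 0 := by
    refine h.eq_zero (sub_mem (rho_mem h2) (rho_mem h1)) (sub_ne_zero.mpr fun e => h12 (h.rho_inj e)) ?_
    show z₂ • c - z₁ • c = 0
    calc z₂ • c - z₁ • c = (b + z₂ • c + z • c) - (b + z₁ • c + z • c) := by abel
      _ = 0 := by rw [k1, k2, sub_zero]
  have hb0 : b = 0 := by simpa [hc0] using k1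
  have ha0 : a = 0 := by simpa [hb0, hc0] using hs
  simp [Prod.ext_iff, ha0, hb0, hc0]

/-- Two conjugates. -/
theorem fc_two_conj {g y : A} : fc V g ^ 2 ≤ Nat.card V * fc V (y * g * y⁻¹ * g⁻¹) := by
  let φ : Fx (V := V) g × Fx (V := V) (y * g * y⁻¹) →+ V :=
    { toFun := fun x => (x.1 : V) + x.2
      map_zero' := by simp
      map_add' := fun x y => by simp only [Prod.fst_add, Prod.snd_add, AddSubgroup.coe_add]; abel }
  have h1 : fc V g ^ 2 = Nat.card φ.range * Nat.card φ.ker := by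
    rw [sq]
    conv_lhs => arg 2; rw [← fc_conj g y]
    rw [fc, fc, ← Nat.card_prod, φ.ker.card_eq_card_quotient_mul_card_addSubgroup,
      Nat.card_congr (QuotientAddGroup.quotientKerEquivRange φ).toEquiv]
  have hmem : ∀ x : φ.ker, (x.1.1 : V) ∈ Fx (V := V) (y * g * y⁻¹ * g⁻¹) := fun x => by
    show (y * g * y⁻¹ * g⁻¹) • (x.1.1 : V) = x.1.1
    have h0 : (x.1.1 : V) + x.1.2 = 0 := x.2
    have h2 : (y * g * y⁻¹) • (x.1.1 : V) = x.1.1 := by
      rw [eq_neg_of_add_eq_zero_left h0, smul_neg, show (y * g * y⁻¹) • (x.1.2 : V) = x.1.2 from x.1.2.2]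
    rw [mul_smul, show g⁻¹ • (x.1.1 : V) = x.1.1 by rw [inv_smul_eq_iff]; exact x.1.1.2.symm, h2]
  rw [h1]
  refine Nat.mul_le_mul (Nat.card_le_card_of_injective _ Subtype.val_injective)
    (Nat.card_le_card_of_injective (fun x => (⟨_, hmem x⟩ : Fx (V := V) (y * g * y⁻¹ * g⁻¹))) fun x x' h => ?_)
  have e : (x.1.1 : V) = x'.1.1 := congrArg (fun u : Fx (V := V) (y * g * y⁻¹ * g⁻¹) => (u : V)) h
  have hx : (x.1.1 : V) + x.1.2 = 0 := x.2
  have hx' : (x'.1.1 : V) + x'.1.2 = 0 := x'.2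
  refine Subtype.ext (Prod.ext (Subtype.ext e) (Subtype.ext ?_))
  rw [eq_neg_of_add_eq_zero_right hx, eq_neg_of_add_eq_zero_right hx', e]

end Setup

end CfsgLib.OddBase
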