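import Cfsg.Agent.Lib.OddBase.Act

/-!
Odd completely reducible groups on small sections.
-/

set_option autoImplicit false

namespace CfsgLib.OddBase

open Subgroup
open scoped commutatorElement

universe u

/-- Automorphism groups of a finite module over a prime field. -/
theorem card_dvd_gl' {M : Type u} [AddCommGroup M] [Finite M] {s : ℕ} [Fact s.Prime] [Module (ZMod s) M] {k : ℕ}
    (hc : Nat.card M = s ^ k) {G : Type u} [Group G] (f : G →* Module.End (ZMod s) M) (hf : Function.Injective f) :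
    Nat.card G ∣ ∏ i : Fin k, (s ^ k - s ^ (i : ℕ)) := by
  classical
  have hk : Module.finrank (ZMod s) M = k := by
    have h : Nat.card M = Nat.card (ZMod s) ^ Module.finrank (ZMod s) M := Module.natCard_eq_pow_finrank
    rw [hc, Nat.card_zmod] at h
    exact (Nat.pow_right_injective (Fact.out : s.Prime).two_le h).symm
  let b := Module.finBasisOfFinrankEq (ZMod s) M hk
  let T : Module.End (ZMod s) M →* Matrix (Fin k) (Fin k) (ZMod s) :=
    { toFun := fun T => LinearMap.toMatrixAlgEquiv b T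
      map_one' := map_one _
      map_mul' := fun x y => map_mul _ x y }
  let F : G →* GL (Fin k) (ZMod s) := (T.comp f).toHomUnits
  have hF : Function.Injective F := fun g h e =>
    hf ((LinearMap.toMatrixAlgEquiv b).injective (congrArg Units.val e))
  have h1 := Subgroup.card_dvd_of_injective F hF
  rw [Matrix.card_GL_field, ZMod.card] at h1
  exact h1

/-- The order of a group of automorphisms of an elementary abelian group divides that of the linear group. -/
theorem card_dvd_gl {W : Type u} [CommGroup W] [Finite W] {s : ℕ} [Fact s.Prime] {k : ℕ}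
    (hc : Nat.card W = s ^ k) (he : ∀ x : W, x ^ s = 1) (S : Subgroup (MulAut W)) :
    Nat.card S ∣ ∏ i : Fin k, (s ^ k - s ^ (i : ℕ)) := by
  have hs : ∀ x : Additive W, s • x = 0 := fun x => congrArg Additive.ofMul (he (Additive.toMul x))
  haveI : Module (ZMod s) (Additive W) := AddCommGroup.zmodModule hs
  refine card_dvd_gl' (M := Additive W) ((Nat.card_congr Additive.toMul).trans hc)
    ({ toFun := fun g => AddMonoidHom.toZModLinearMap s (M := Additive W) (M₁ := Additive W)
          (MonoidHom.toAdditive (g : MulAut W).toMonoidHom)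
       map_one' := LinearMap.ext fun x => rfl
       map_mul' := fun g h => LinearMap.ext fun x => ?_ } : S →* Module.End (ZMod s) (Additive W)) ?_
  · rw [Module.End.mul_apply]
    exact congrArg Additive.ofMul (MulAut.mul_apply W (g : MulAut W) (h : MulAut W) (Additive.toMul x))
  · intro g h e
    exact Subtype.ext (MulEquiv.ext fun x => congrArg Additive.toMul (LinearMap.congr_fun e (Additive.ofMul x)))

variable {W : Type u} [CommGroup W] [Finite W]

/-- Fixed points of an automorphism of prime order. -/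
theorem card_fix_modEq {p : ℕ} [hp : Fact p.Prime] {g : MulAut W} (hg : orderOf g = p)
    (U : Subgroup W) (hU : ∀ x ∈ U, g x ∈ U) :
    Nat.card U ≡ Nat.card {x : W // x ∈ U ∧ g x = x} [MOD p] := by
  have hUz : ∀ t : zpowers g, ∀ x ∈ U, (t : MulAut W) x ∈ U := fun t x hx => by
    obtain ⟨m, hm⟩ := ((isOfFinOrder_of_finite g).mem_powers_iff_mem_zpowers).mpr t.2
    rw [← hm]
    clear hm
    induction m with
    | zero => exact hx
    | succ m ih => rw [show (fun x => g ^ x) (m + 1) = g * g ^ m from pow_succ' g m]; exact hU _ ih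
  letI : MulAction (zpowers g) U :=
    { smul := fun t x => ⟨(t : MulAut W) x, hUz t x x.2⟩
      one_smul := fun x => Subtype.ext rfl
      mul_smul := fun a b x => Subtype.ext rfl }
  have hzp : IsPGroup p (zpowers g) := IsPGroup.of_card (n := 1) (by rw [Nat.card_zpowers, hg, pow_one])
  refine (hzp.card_modEq_card_fixedPoints U).trans (congrArg (· % p) (Nat.card_congr
    ⟨fun x => ⟨x.1, x.1.2, congrArg Subtype.val (x.2 ⟨g, mem_zpowers g⟩)⟩,
      fun x => ⟨⟨x.1, x.2.1⟩, fun t => Subtype.ext ?_⟩, fun _ => rfl, fun _ => rfl⟩))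
  show (t : MulAut W) x.1 = x.1
  obtain ⟨m, hm⟩ := ((isOfFinOrder_of_finite g).mem_powers_iff_mem_zpowers).mpr t.2
  rw [← hm]
  clear hm
  induction m with
  | zero => rfl
  | succ m ih =>
    show (g ^ (m + 1)) x.1 = x.1
    rw [pow_succ', MulAut.mul_apply]
    exact (congrArg g ih).trans x.2.2

/-- The fixed subgroup. -/
def fixSub (g : MulAut W) : Subgroup W where
  carrier := {x | g x = x}
  one_mem' := map_one g
  mul_mem' {a b} ha hb := by
    show g (a * b) = a * b
    rw [map_mul, show g a = a from ha, show g b = b from hb]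
  inv_mem' {a} ha := by
    show g a⁻¹ = a⁻¹
    rw [map_inv, show g a = a from ha]

/-- Odd completely reducible groups on a group of order `81`. -/
theorem bound_81 (hc : Nat.card W = 81) (he : ∀ x : W, x ^ 3 = 1) {S H : Subgroup (MulAut W)} (hS : CRAut S)
    (hH : H ≤ S) (hn : ∀ g ∈ S, ∀ t ∈ H, g * t * g⁻¹ ∈ H) (hodd : Odd (Nat.card H))
    (h13 : ∀ g ∈ H, orderOf g ≠ 13) : Nat.card H ≤ 5 := by
  haveI : Fact (Nat.Prime 3) := ⟨by norm_num⟩
  haveI : Fact (Nat.Prime 5) := ⟨by norm_num⟩
  haveI : Fact (Nat.Prime 13) := ⟨by norm_num⟩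
  have hW3 : IsPGroup 3 W := IsPGroup.of_card (n := 4) (by rw [hc]; norm_num)
  have hT : ∀ T : Subgroup (MulAut W), T ≤ H → IsPGroup 3 T → (∀ x ∈ H, x ^ 729 = 1 → x ∈ T) →
      (∀ x ∈ T, x ^ 729 = 1) → T = ⊥ := fun T hTH hT3 hall hexp =>
    no_normal_pGroup hW3 hS (hTH.trans hH) (fun g hg t ht => hall _ (hn g hg t (hTH ht))
      (by rw [conj_pow, hexp t ht, mul_one, mul_inv_cancel])) hT3
  have hd : Nat.card H ∣ 3645 := by
    have h1 := card_dvd_gl (s := 3) (k := 4) (by rw [hc]; norm_num) he H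
    simp [Fin.prod_univ_four] at h1
    have h2 : Nat.card H ∣ 47385 :=
      (Nat.Coprime.dvd_of_dvd_mul_left (Nat.Coprime.pow_right 9 hodd.coprime_two_right) (k := Nat.card H) (m := 2 ^ 9)
        (n := 47385) (by norm_num; exact h1))
    have h3 : ¬ 13 ∣ Nat.card H := fun h => by
      obtain ⟨g, hg⟩ := exists_prime_orderOf_dvd_card' 13 h
      exact h13 g g.2 (by rw [Subgroup.orderOf_coe, hg])
    exact ((Nat.Prime.coprime_iff_not_dvd (by norm_num)).mpr h3).symm.dvd_of_dvd_mul_left (by simpa using h2)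
  by_cases h5 : 5 ∣ Nat.card H
  swap
  · have h6 : Nat.card H ∣ 3 ^ 6 :=
      ((Nat.Prime.coprime_iff_not_dvd (by norm_num)).mpr h5).symm.dvd_of_dvd_mul_left (by simpa using hd)
    obtain ⟨b, -, hb⟩ := (Nat.dvd_prime_pow (by norm_num)).mp h6
    have hpow : ∀ x ∈ H, x ^ 729 = 1 := fun x hx => orderOf_dvd_iff_pow_eq_one.mp
      ((Subgroup.orderOf_dvd_natCard H hx).trans (by simpa using h6))
    rw [hT H le_rfl (IsPGroup.of_card hb) (fun x hx _ => hx) hpow]
    simp
  obtain ⟨P⟩ : Nonempty (Sylow 5 H) := inferInstance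
  have hPc : Nat.card P = 5 := by
    obtain ⟨a, ha⟩ := P.2.exists_card_eq
    have h1 : 5 ∣ Nat.card P := P.dvd_card_of_dvd_card h5
    have h2 : Nat.card P ∣ 3645 := (Subgroup.card_subgroup_dvd_card _).trans hd
    rw [ha] at h1 h2 ⊢
    match a, h1, h2 with
    | 0, h1, _ => norm_num at h1
    | 1, _, _ => rfl
    | a + 2, _, h2 =>
      exfalso
      have : 25 ∣ 3645 := (pow_dvd_pow 5 (by omega : 2 ≤ a + 2)).trans h2
      norm_num at this
  obtain ⟨⟨p, hp⟩, hp5⟩ := exists_prime_orderOf_dvd_card' (G := (P : Subgroup H)) 5 (by rw [hPc])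
  have hp' : orderOf (p : MulAut W) = 5 := by
    rw [← hp5, ← Subgroup.orderOf_coe (⟨p, hp⟩ : (P : Subgroup H))]
    exact Subgroup.orderOf_coe p
  have hgen : ∀ q ∈ (P : Subgroup H), q ∈ zpowers p := by
    have : zpowers p = (P : Subgroup H) := Subgroup.eq_of_le_of_card_ge (zpowers_le.mpr hp) (by
      rw [hPc, Nat.card_zpowers, ← Subgroup.orderOf_coe, hp'])
    exact fun q hq => this ▸ hq
  -- a normalizing element centralizes
  have hNC : Subgroup.normalizer ((P : Subgroup H) : Set H) ≤ centralizer ((P : Subgroup H) : Set H) := by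
    intro g hg
    let φ := (P : Subgroup H).normalizerMonoidHom
    haveI : IsCyclic (P : Subgroup H) := isCyclic_of_prime_card hPc
    have h4 : orderOf (φ ⟨g, hg⟩) ∣ 4 := by
      have := orderOf_dvd_natCard (φ ⟨g, hg⟩)
      rw [IsCyclic.card_mulAut, hPc] at this
      simpa [Nat.totient_prime (by norm_num : Nat.Prime 5)] using this
    have hodd' : Odd (orderOf (φ ⟨g, hg⟩)) := hodd.of_dvd_nat ((orderOf_map_dvd φ _).trans
      ((Subgroup.orderOf_mk g hg).dvd.trans (orderOf_dvd_natCard g)))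
    have h1 : φ ⟨g, hg⟩ = 1 := orderOf_eq_one_iff.mp (Nat.dvd_one.mp
      (Nat.Coprime.dvd_of_dvd_mul_right (Nat.Coprime.pow_right 2 hodd'.coprime_two_right) (k := orderOf (φ ⟨g, hg⟩))
        (m := 1) (n := 2 ^ 2) (by simpa using h4)))
    refine Subgroup.mem_centralizer_iff.mpr fun q hq => ?_
    have := congrArg Subtype.val (DFunLike.congr_fun h1 (⟨q, hq⟩ : (P : Subgroup H)))
    change g * q * g⁻¹ = q at this
    exact (mul_inv_eq_iff_eq_mul.mp this).symm
  have hPfree : ∀ U : Subgroup W, (∀ x ∈ U, (p : MulAut W) x ∈ U) → U = ⊥ ∨ U = ⊤ := by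
    have hcard : ∀ U : Subgroup W, Nat.card U % 5 = 1 → U = ⊥ ∨ U = ⊤ := fun U hU => by
      have hdvd : Nat.card U ∣ 3 ^ 4 := by rw [show 3 ^ 4 = Nat.card W by rw [hc]; norm_num]; exact card_subgroup_dvd_card U
      obtain ⟨j, hj, hj'⟩ := (Nat.dvd_prime_pow (by norm_num)).mp hdvd
      rw [hj'] at hU
      interval_cases j <;> norm_num at hU
      · exact Or.inl (Subgroup.eq_bot_of_card_eq _ (by simpa using hj'))
      · exact Or.inr (Subgroup.eq_top_of_card_eq _ (by rw [hj', hc]; norm_num))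
    have hfixp : fixSub (p : MulAut W) = ⊥ := by
      refine (hcard _ ?_).resolve_right fun h => ?_
      · have h1 := card_fix_modEq hp' ⊤ (fun x _ => trivial)
        rw [Subgroup.card_top, hc, Nat.card_congr (Equiv.subtypeEquivRight (q := fun x => x ∈ fixSub (p : MulAut W))
          fun x => ⟨fun h => h.2, fun h => ⟨trivial, h⟩⟩)] at h1
        exact h1.symm
      · rw [show (p : MulAut W) = 1 from MulEquiv.ext fun x => h.ge (Subgroup.mem_top x), orderOf_one] at hp'
        norm_num at hp'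
    intro U hU
    refine hcard U ?_
    have h1 := card_fix_modEq hp' U hU
    have h2 : Nat.card {x : W // x ∈ U ∧ (p : MulAut W) x = x} = 1 := by
      haveI : Subsingleton {x : W // x ∈ U ∧ (p : MulAut W) x = x} := ⟨fun x y => Subtype.ext (by
        rw [Subgroup.mem_bot.mp (hfixp.le x.2.2), Subgroup.mem_bot.mp (hfixp.le y.2.2)])⟩
      haveI : Nonempty {x : W // x ∈ U ∧ (p : MulAut W) x = x} := ⟨⟨1, U.one_mem, map_one _⟩⟩
      exact Nat.card_unique
    rw [h2] at h1
    exact h1
  have hcent : ∀ t : H, t ∈ centralizer ((P : Subgroup H) : Set H) → (t : MulAut W) ^ 729 = 1 → t = 1 := fun t ht h3 => by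
    have hcomm : (p : MulAut W) * t = t * p := congrArg Subtype.val (Subgroup.mem_centralizer_iff.mp ht p hp)
    rcases hPfree (fixSub (t : MulAut W)) (fun x (hx : (t : MulAut W) x = x) => by
      show (t : MulAut W) ((p : MulAut W) x) = (p : MulAut W) x
      rw [← MulAut.mul_apply, ← hcomm, MulAut.mul_apply, hx]) with h | h
    · exfalso
      have hz : IsPGroup 3 (zpowers (t : MulAut W)) := by
        intro z
        refine ⟨6, ?_⟩
        obtain ⟨m, hm⟩ := mem_zpowers_iff.mp z.2
        apply Subtype.ext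
        rw [SubgroupClass.coe_pow, ← hm, ← zpow_natCast, ← zpow_mul, mul_comm, zpow_mul, zpow_natCast,
          show 3 ^ 6 = 729 by norm_num, h3, one_zpow]
        rfl
      letI : MulAction (zpowers (t : MulAut W)) W := MulAction.compHom W (zpowers (t : MulAut W)).subtype
      obtain ⟨x, hx, hx1⟩ := hz.exists_fixed_point_of_prime_dvd_card_of_fixed_point (α := W) (by rw [hc]; norm_num)
        (a := 1) (fun z => map_one (z : MulAut W))
      exact hx1 (Subgroup.mem_bot.mp (h.le (show x ∈ fixSub (t : MulAut W) from hx ⟨_, mem_zpowers _⟩))).symm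
    · exact Subtype.ext (MulEquiv.ext fun x => h.ge (Subgroup.mem_top x))
  -- a normal complement
  obtain ⟨K, hKn, hKc⟩ : ∃ K : Subgroup H, K.Normal ∧ K.IsComplement' (P : Subgroup H) :=
    ⟨(MonoidHom.transferSylow P hNC).ker, inferInstance, MonoidHom.ker_transferSylow_isComplement' P hNC⟩
  have hKcard : Nat.card K * 5 = Nat.card H := by rw [← hPc]; exact hKc.card_mul
  have hK729 : Nat.card K ∣ 3 ^ 6 := Nat.dvd_of_mul_dvd_mul_right (by norm_num : 0 < 5) (by rw [hKcard]; exact hd)
  obtain ⟨b, -, hb⟩ := (Nat.dvd_prime_pow (by norm_num)).mp hK729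
  have hTb : K.map H.subtype = ⊥ := by
    refine hT _ (Subgroup.map_subtype_le K) ((IsPGroup.of_card hb).map _) (fun x hx hx729 => ⟨⟨x, hx⟩, ?_, rfl⟩) ?_
    · haveI := hKn
      rw [SetLike.mem_coe, ← QuotientGroup.eq_one_iff, ← orderOf_eq_one_iff]
      have h5' : Nat.card (↥H ⧸ K) = 5 := by
        rw [← Subgroup.index_eq_card, hKc.symm.index_eq_card, hPc]
      have d1 : orderOf (QuotientGroup.mk (⟨x, hx⟩ : H) : ↥H ⧸ K) ∣ 5 := h5' ▸ orderOf_dvd_natCard _
      have d2 : orderOf (QuotientGroup.mk (⟨x, hx⟩ : H) : ↥H ⧸ K) ∣ 729 := orderOf_dvd_iff_pow_eq_one.mpr (by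
        rw [← QuotientGroup.mk_pow, show (⟨x, hx⟩ : H) ^ 729 = 1 from Subtype.ext hx729, QuotientGroup.mk_one])
      exact Nat.eq_one_of_dvd_coprimes (by norm_num : Nat.Coprime 5 729) d1 d2
    · rintro _ ⟨x, hx, rfl⟩
      refine orderOf_dvd_iff_pow_eq_one.mp ?_
      rw [Subgroup.coe_subtype, Subgroup.orderOf_coe]
      exact (Subgroup.orderOf_dvd_natCard K hx).trans hK729
  rw [Subgroup.map_eq_bot_iff_of_injective _ H.subtype_injective] at hTb
  rw [hTb, Subgroup.card_bot, one_mul] at hKcard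
  omega

end CfsgLib.OddBase
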