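import Cfsg.Agent.Lib.OddBase.Fix

/-!
The symplectic section above a maximal abelian normal subgroup.
-/

set_option autoImplicit false

namespace CfsgLib.OddBase

open Subgroup
open scoped commutatorElement

universe u

variable {A V : Type u} [Group A] [AddCommGroup V] [DistribMulAction A V] {Z F L : Subgroup A}

theorem comm_mul_right (x y y' : A) : ⁅x, y * y'⁆ = ⁅x, y⁆ * (y * ⁅x, y'⁆ * y⁻¹) := by
  simp only [commutatorElement_def]; group

theorem comm_mul_left (x x' y : A) : ⁅x * x', y⁆ = x * ⁅x', y⁆ * x⁻¹ * ⁅x, y⁆ := by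
  simp only [commutatorElement_def]; group

theorem central_conj {y z : A} (hy : y ∈ centralizer (Z : Set A)) (hz : z ∈ Z) : y * z * y⁻¹ = z := by
  rw [← Subgroup.mem_centralizer_iff.mp hy z hz, mul_inv_cancel_right]

theorem comm_eq_one_iff (x y : A) : ⁅x, y⁆ = 1 ↔ x * y = y * x := commutatorElement_eq_one_iff_mul_comm

/-- A symplectic section. -/
structure Frame (A V : Type u) [Group A] [AddCommGroup V] [DistribMulAction A V] (Z F L : Subgroup A) : Prop where
  base : Setup A V Z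
  normal : F.Normal
  le : Z ≤ F
  cent : F ≤ centralizer (Z : Set A)
  comm : ∀ x ∈ F, ∀ y ∈ F, ⁅x, y⁆ ∈ Z
  centre : ∀ x ∈ centralizer (Z : Set A), (∀ y ∈ F, ⁅x, y⁆ = 1) → x ∈ Z
  ker : ∀ x ∈ centralizer (Z : Set A), (∀ y ∈ F, ⁅x, y⁆ ∈ Z) → x ∈ F
  le_half : Z ≤ L
  half_le : L ≤ F
  half_comm : ∀ x ∈ L, ∀ y ∈ L, ⁅x, y⁆ = 1
  half_max : ∀ x ∈ F, (∀ y ∈ L, ⁅x, y⁆ = 1) → x ∈ L

variable [Finite A]

/-- Distinct characters of an abelian section into the field are at most as many as the section. -/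
theorem pair_bound (h : Setup A V Z) {X X₀ Y Y₀ : Subgroup A} (hX : X ≤ centralizer (Z : Set A))
    (hY : Y ≤ centralizer (Z : Set A)) (hcomm : ∀ x ∈ X, ∀ y ∈ Y, ⁅x, y⁆ ∈ Z)
    (hnorm : (Y₀.subgroupOf Y).Normal) (h0 : ∀ x ∈ X, ∀ y ∈ Y₀, ⁅x, y⁆ = 1)
    (hker : ∀ x ∈ X, (∀ y ∈ Y, ⁅x, y⁆ = 1) → x ∈ X₀) :
    X₀.relIndex X ≤ Y₀.relIndex Y := by
  classical
  letI : Field (genRing (V := V) Z) := h.field.toField
  haveI := hnorm
  let f : X → (Y →* genRing (V := V) Z) := fun x =>
    { toFun := fun y => ⟨rho ⁅(x : A), (y : A)⁆, rho_mem (hcomm x x.2 y y.2)⟩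
      map_one' := Subtype.ext (show rho ⁅(x : A), ((1 : Y) : A)⁆ = 1 by simp)
      map_mul' := fun y y' => Subtype.ext (show rho ⁅(x : A), (y : A) * y'⁆ = rho ⁅(x : A), (y : A)⁆ * rho ⁅(x : A), (y' : A)⁆ by
        rw [comm_mul_right, central_conj (hY y.2) (hcomm x x.2 y' y'.2), map_mul]) }
  have hkerf : ∀ x, Y₀.subgroupOf Y ≤ (f x).ker := fun x y hy => by
    rw [MonoidHom.mem_ker]
    exact Subtype.ext (show rho ⁅(x : A), (y : A)⁆ = 1 by rw [h0 x x.2 y hy, map_one])
  let g : X ⧸ X₀.subgroupOf X → (Y ⧸ Y₀.subgroupOf Y →* genRing (V := V) Z) := fun q =>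
    QuotientGroup.lift _ (f q.out) (hkerf _)
  have hg : Function.Injective g := fun q q' e => by
    rw [← Quotient.out_eq q, ← Quotient.out_eq q']
    refine (QuotientGroup.eq (s := X₀.subgroupOf X)).mpr (hker _ (X.mul_mem (X.inv_mem q.out.2) q'.out.2) fun y hy => ?_)
    have e1 : ⁅(q.out : A), y⁆ = ⁅(q'.out : A), y⁆ :=
      h.rho_inj (congrArg Subtype.val (DFunLike.congr_fun e (QuotientGroup.mk (⟨y, hy⟩ : Y) : Y ⧸ Y₀.subgroupOf Y)))
    have e2 : (q.out : A) * ⁅(q.out : A)⁻¹ * q'.out, y⁆ * (q.out : A)⁻¹ * ⁅(q.out : A), y⁆ = ⁅(q'.out : A), y⁆ := by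
      rw [← comm_mul_left, mul_inv_cancel_left]
    rw [← e1, mul_eq_right, conj_eq_one_iff] at e2
    exact e2
  haveI : Fintype (Y ⧸ Y₀.subgroupOf Y) := Fintype.ofFinite _
  have hli := (linearIndependent_monoidHom (Y ⧸ Y₀.subgroupOf Y) (genRing (V := V) Z)).comp g hg
  haveI : Fintype (X ⧸ X₀.subgroupOf X) := Fintype.ofFinite _
  have := hli.fintype_card_le_finrank
  rw [Module.finrank_fintype_fun_eq_card, ← Nat.card_eq_fintype_card, ← Nat.card_eq_fintype_card] at this
  exact this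

theorem exists_frame [Group.IsSolvable A] (h : Setup A V Z) : ∃ F L, Frame A V Z F L := by
  classical
  haveI := h.normal
  haveI hCn := centralizer_normal h.normal
  set C := centralizer (Z : Set A)
  haveI : WellFoundedGT (Subgroup A) := inferInstance
  obtain ⟨F, ⟨hFn, hZF, hFC, hFc⟩, hmaxF⟩ := (wellFounded_gt : WellFounded (α := Subgroup A) (· > ·)).has_min
    {N | N.Normal ∧ Z ≤ N ∧ N ≤ C ∧ ∀ x ∈ N, ∀ y ∈ N, ⁅x, y⁆ ∈ Z}
    ⟨Z, h.normal, le_rfl, h.le_centralizer, fun x hx y hy => Z.mul_mem (Z.mul_mem (Z.mul_mem hx hy) (Z.inv_mem hx)) (Z.inv_mem hy)⟩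
  haveI := hFn
  have hZF' : ∀ x ∈ F, (∀ y ∈ F, ⁅x, y⁆ = 1) → x ∈ Z := fun x hx hc => by
    have := h.maximal (F ⊓ centralizer (F : Set A)) (by
        haveI := centralizer_normal hFn
        infer_instance)
      (fun a ha b hb => (Subgroup.mem_centralizer_iff.mp hb.2 a ha.1)) fun z hz => ⟨hZF hz,
        Subgroup.mem_centralizer_iff.mpr fun y hy => (Subgroup.mem_centralizer_iff.mp (hFC hy) z hz).symm⟩
    rw [← this]
    exact ⟨hx, Subgroup.mem_centralizer_iff.mpr fun y hy => ((comm_eq_one_iff x y).mp (hc y hy)).symm⟩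
  have hcentre : ∀ x ∈ C, (∀ y ∈ F, ⁅x, y⁆ = 1) → x ∈ Z := by
    by_contra hcon
    push Not at hcon
    obtain ⟨x, hxC, hxF, hxZ⟩ := hcon
    set D := C ⊓ centralizer (F : Set A)
    haveI : D.Normal := by
      haveI := centralizer_normal hFn
      infer_instance
    let π := QuotientGroup.mk' Z
    haveI : (D.map π).Normal := Subgroup.Normal.map inferInstance π (QuotientGroup.mk'_surjective Z)
    have hxD : x ∈ D := ⟨hxC, Subgroup.mem_centralizer_iff.mpr fun y hy => ((comm_eq_one_iff x y).mp (hxF y hy)).symm⟩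
    have hne : D.map π ≠ ⊥ := fun e => hxZ (by
      have : π x ∈ D.map π := ⟨x, hxD, rfl⟩
      rw [e, Subgroup.mem_bot] at this
      exact (QuotientGroup.eq_one_iff x).mp this)
    obtain ⟨M, hMn, hMD, hM, hMab, -⟩ := exists_minimal_abelian (G := A ⧸ Z) hne
    set E := M.comap π
    haveI : E.Normal := Subgroup.Normal.comap hMn π
    have hZE : Z ≤ E := fun z hz => by
      show π z ∈ M
      rw [show π z = 1 from (QuotientGroup.eq_one_iff z).mpr hz]
      exact one_mem _
    have hED : E ≤ D := fun e he => by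
      obtain ⟨d, hd, hde⟩ := hMD he
      have hz : d⁻¹ * e ∈ Z := QuotientGroup.eq.mp hde
      rw [← mul_inv_cancel_left d e]
      exact D.mul_mem hd ⟨h.le_centralizer hz, Subgroup.mem_centralizer_iff.mpr fun y hy =>
        (Subgroup.mem_centralizer_iff.mp (hFC hy) _ hz).symm⟩
    have hEc : ∀ a ∈ E, ∀ b ∈ E, ⁅a, b⁆ ∈ Z := fun a ha b hb => (QuotientGroup.eq_one_iff _).mp
      (show π ⁅a, b⁆ = 1 by rw [map_commutatorElement]; exact (comm_eq_one_iff _ _).mpr (hMab _ ha _ hb))
    have hFEc : ∀ a ∈ F ⊔ E, ∀ b ∈ F ⊔ E, ⁅a, b⁆ ∈ Z := by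
      intro a ha b hb
      obtain ⟨f, hf, e, he, rfl⟩ := Subgroup.mem_sup_of_normal_right.mp ha
      obtain ⟨f', hf', e', he', rfl⟩ := Subgroup.mem_sup_of_normal_right.mp hb
      have c1 : ∀ {p q : A}, p ∈ F → q ∈ E → p * q = q * p := fun hp hq =>
        Subgroup.mem_centralizer_iff.mp (hED hq).2 _ hp
      have e1 : ⁅f * e, f' * e'⁆ = ⁅f, f'⁆ * ⁅e, e'⁆ := by
        rw [comm_mul_left, comm_mul_right e, comm_mul_right f, (comm_eq_one_iff e f').mpr (c1 hf' he).symm, one_mul,
          (comm_eq_one_iff f e').mpr (c1 hf he'), mul_one, mul_inv_cancel, mul_one]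
        have k1 : f' * ⁅e, e'⁆ * f'⁻¹ = ⁅e, e'⁆ := central_conj (hFC hf') (hEc e he e' he')
        have k2 : f * ⁅e, e'⁆ * f⁻¹ = ⁅e, e'⁆ := central_conj (hFC hf) (hEc e he e' he')
        rw [k1, k2]
        exact h.comm _ (hEc e he e' he') _ (hFc f hf f' hf')
      rw [e1]
      exact Z.mul_mem (hFc f hf f' hf') (hEc e he e' he')
    have hEF : E ≤ F := by
      by_contra hcon
      exact hmaxF (F ⊔ E) ⟨inferInstance, hZF.trans le_sup_left, sup_le hFC (hED.trans inf_le_left), hFEc⟩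
        (lt_of_le_of_ne le_sup_left fun e => hcon (e ▸ le_sup_right))
    refine hM (eq_bot_iff.mpr fun m hm => ?_)
    obtain ⟨e, rfl⟩ := QuotientGroup.mk'_surjective Z m
    exact Subgroup.mem_bot.mpr ((QuotientGroup.eq_one_iff e).mpr (hZF' e (hEF hm) fun y hy =>
      (comm_eq_one_iff e y).mpr (Subgroup.mem_centralizer_iff.mp (hED hm).2 y hy).symm))
  obtain ⟨L, ⟨hZL, hLF, hLc⟩, hmaxL⟩ := (wellFounded_gt : WellFounded (α := Subgroup A) (· > ·)).has_min
    {N | Z ≤ N ∧ N ≤ F ∧ ∀ x ∈ N, ∀ y ∈ N, ⁅x, y⁆ = 1}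
    ⟨Z, le_rfl, hZF, fun x hx y hy => (comm_eq_one_iff x y).mpr (h.comm x hx y hy)⟩
  have hLmax : ∀ x ∈ F, (∀ y ∈ L, ⁅x, y⁆ = 1) → x ∈ L := fun x hx hc => by
    by_contra hxL
    refine hmaxL (closure (insert x (L : Set A))) ⟨hZL.trans fun y hy => subset_closure (Or.inr hy),
      (closure_le F).mpr (Set.insert_subset hx hLF), fun a ha b hb => ?_⟩
      (lt_of_le_of_ne (fun y hy => subset_closure (Or.inr hy)) fun e => hxL (e.ge (subset_closure (Or.inl rfl))))
    haveI := Subgroup.isMulCommutative_closure (k := insert x (L : Set A)) (by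
      intro p hp q hq
      rcases hp with rfl | hp <;> rcases hq with rfl | hq
      · rfl
      · exact (comm_eq_one_iff _ _).mp (hc q hq)
      · exact ((comm_eq_one_iff _ _).mp (hc p hp)).symm
      · exact (comm_eq_one_iff _ _).mp (hLc p hp q hq))
    exact (comm_eq_one_iff a b).mpr (congrArg Subtype.val (mul_comm' (⟨a, ha⟩ : closure (insert x (L : Set A))) ⟨b, hb⟩))
  let X : Subgroup A :=
    { carrier := {g | g ∈ C ∧ ∀ y ∈ F, ⁅g, y⁆ ∈ Z}
      one_mem' := ⟨one_mem C, fun y _ => by rw [commutatorElement_one_left]; exact one_mem Z⟩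
      mul_mem' := fun {a b} ha hb => ⟨C.mul_mem ha.1 hb.1, fun y hy => by
        rw [comm_mul_left, central_conj ha.1 (hb.2 y hy)]
        exact Z.mul_mem (hb.2 y hy) (ha.2 y hy)⟩
      inv_mem' := fun {a} ha => ⟨C.inv_mem ha.1, fun y hy => by
        have e : ⁅a⁻¹, y⁆ = a⁻¹ * ⁅a, y⁆⁻¹ * a⁻¹⁻¹ := by simp only [commutatorElement_def]; group
        rw [e]
        exact h.normal.conj_mem _ (Z.inv_mem (ha.2 y hy)) _⟩ }
  have hFX : F ≤ X := fun f hf => ⟨hFC hf, hFc f hf⟩
  have hXF : X ≤ F := by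
    have h1 : Z.relIndex X ≤ Z.relIndex F := pair_bound h (X := X) (X₀ := Z) (fun g hg => hg.1) hFC (fun g hg => hg.2)
      inferInstance
      (fun g hg z hz => (comm_eq_one_iff g z).mpr (Subgroup.mem_centralizer_iff.mp hg.1 z hz).symm)
      (fun g hg hc => hcentre g hg.1 hc)
    have h2 := Subgroup.relIndex_mul_relIndex Z F X hZF hFX
    have h3 : F.relIndex X = 1 := by
      have hpos : 0 < Z.relIndex F := Nat.pos_of_ne_zero Subgroup.FiniteIndex.index_ne_zero
      have hpos' : 0 < F.relIndex X := Nat.pos_of_ne_zero Subgroup.FiniteIndex.index_ne_zero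
      nlinarith
    exact Subgroup.relIndex_eq_one.mp h3
  exact ⟨F, L, h, hFn, hZF, hFC, hFc, hcentre, fun g hg hc => hXF ⟨hg, hc⟩, hZL, hLF, hLc, hLmax⟩

namespace Frame

variable (hf : Frame A V Z F L)
include hf

theorem centre_F {x : A} (hx : x ∈ F) (h : ∀ y ∈ F, ⁅x, y⁆ = 1) : x ∈ Z := hf.centre x (hf.cent hx) h

theorem central_left {x z : A} (hx : x ∈ centralizer (Z : Set A)) (hz : z ∈ Z) : ⁅x, z⁆ = 1 :=
  (comm_eq_one_iff x z).mpr (Subgroup.mem_centralizer_iff.mp hx z hz).symm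

/-- The index of the section is a square. -/
theorem sq_index : Z.relIndex F = Z.relIndex L * Z.relIndex L := by
  haveI := hf.base.normal
  have hn : (L.subgroupOf F).Normal := ⟨fun l hl x => by
    show (x : A) * l * (x : A)⁻¹ ∈ L
    have : (x : A) * l * (x : A)⁻¹ = ⁅(x : A), (l : A)⁆ * l := by simp [commutatorElement_def, mul_assoc]
    rw [this]
    exact L.mul_mem (hf.le_half (hf.comm x x.2 l (hf.half_le hl))) hl⟩
  have h1 : L.relIndex F ≤ Z.relIndex L := pair_bound hf.base hf.cent (hf.half_le.trans hf.cent)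
    (fun x hx y hy => hf.comm x hx y (hf.half_le hy)) inferInstance
    (fun x hx z hz => hf.central_left (hf.cent hx) hz) hf.half_max
  have h2 : Z.relIndex L ≤ L.relIndex F := pair_bound hf.base (hf.half_le.trans hf.cent) hf.cent
    (fun x hx y hy => hf.comm x (hf.half_le hx) y hy) hn hf.half_comm
    (fun x hx hc => hf.centre_F (hf.half_le hx) hc)
  rw [← Subgroup.relIndex_mul_relIndex Z L F hf.le_half hf.half_le, le_antisymm h1 h2]

/-- Powers falling into the centre. -/
theorem exponent_halve (M : ℕ) (hM : ∀ x ∈ F, x ^ (M * M) ∈ Z) : ∀ x ∈ F, x ^ M ∈ Z := by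
  haveI := hf.base.normal
  haveI := hf.normal
  have hpl : ∀ x ∈ F, ∀ y ∈ F, ∀ k : ℕ, ⁅x ^ k, y⁆ = ⁅x, y⁆ ^ k := fun x hx y hy k => by
    induction k with
    | zero => simp
    | succ k ih =>
      rw [pow_succ', comm_mul_left, ih, central_conj (hf.cent hx) (pow_mem (hf.comm x hx y hy) k), ← pow_succ]
  have hcm : ∀ x ∈ F, ∀ y ∈ F, ⁅x ^ M, y ^ M⁆ = 1 := fun x hx y hy => by
    have e : ⁅y ^ M, x⁆ = ⁅y, x⁆ ^ M := hpl y hy x hx M
    calc ⁅x ^ M, y ^ M⁆ = ⁅x, y ^ M⁆ ^ M := hpl x hx _ (pow_mem hy M) M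
      _ = (⁅x, y⁆ ^ M) ^ M := by
        rw [← commutatorElement_inv, e, ← commutatorElement_inv x y]; simp only [inv_pow, inv_inv]
      _ = ⁅x, y⁆ ^ (M * M) := (pow_mul _ _ _).symm
      _ = 1 := by rw [← hpl x hx y hy, commutatorElement_eq_one_iff_mul_comm]
                  exact Subgroup.mem_centralizer_iff.mp (hf.cent hy) _ (hM x hx)
  let s : Set A := (Z : Set A) ∪ (fun x => x ^ M) '' (F : Set A)
  haveI := Subgroup.isMulCommutative_closure (k := s) (by
    intro p hp q hq
    rcases hp with hp | ⟨p, hp', rfl⟩ <;> rcases hq with hq | ⟨q, hq', rfl⟩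
    · exact hf.base.comm p hp q hq
    · exact Subgroup.mem_centralizer_iff.mp (hf.cent (pow_mem hq' M)) p hp
    · exact (Subgroup.mem_centralizer_iff.mp (hf.cent (pow_mem hp' M)) q hq).symm
    · exact (comm_eq_one_iff _ _).mp (hcm p hp' q hq'))
  have hn : (closure s).Normal := ⟨fun x hx g => by
    induction hx using Subgroup.closure_induction with
    | mem y hy =>
      refine subset_closure ?_
      rcases hy with hy | ⟨y, hy, rfl⟩
      · exact Or.inl (hf.base.normal.conj_mem y hy g)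
      · exact Or.inr ⟨_, hf.normal.conj_mem y hy g, conj_pow⟩
    | one => simp
    | mul y z _ _ h1 h2 =>
      have : g * (y * z) * g⁻¹ = (g * y * g⁻¹) * (g * z * g⁻¹) := by group
      rw [this]; exact mul_mem h1 h2
    | inv y _ h1 =>
      have : g * y⁻¹ * g⁻¹ = (g * y * g⁻¹)⁻¹ := by group
      rw [this]; exact inv_mem h1⟩
  have hle := hf.base.maximal (closure s) hn
    (fun a ha b hb => congrArg Subtype.val (mul_comm' (⟨a, ha⟩ : closure s) ⟨b, hb⟩))
    fun z hz => subset_closure (Or.inl hz)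
  exact fun x hx => hle.le (subset_closure (Or.inr ⟨x, hx, rfl⟩))

/-- The primes of the index divide the order of the subgroup. -/
theorem prime_dvd {s : ℕ} (hs : s.Prime) (hd : s ∣ Z.relIndex F) : ∃ z ∈ Z, orderOf z = s := by
  haveI := hf.base.normal
  haveI := Fact.mk hs
  obtain ⟨q, hq⟩ := exists_prime_orderOf_dvd_card' (G := F ⧸ Z.subgroupOf F) s hd
  obtain ⟨x, rfl⟩ := QuotientGroup.mk_surjective q
  have hxZ : (x : A) ∉ Z := fun h => by
    rw [(QuotientGroup.eq_one_iff x).mpr h, orderOf_one] at hq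
    exact hs.one_lt.ne hq
  have hxs : (x : A) ^ s ∈ Z := by
    have h1 := pow_orderOf_eq_one (QuotientGroup.mk x : F ⧸ Z.subgroupOf F)
    rw [hq, ← QuotientGroup.mk_pow, QuotientGroup.eq_one_iff] at h1
    exact h1
  obtain ⟨y, hy, hxy⟩ : ∃ y ∈ F, ⁅(x : A), y⁆ ≠ 1 := by
    by_contra h
    push Not at h
    exact hxZ (hf.centre_F x.2 h)
  refine ⟨⁅(x : A), y⁆, hf.comm _ x.2 y hy, orderOf_eq_prime ?_ hxy⟩
  have : ∀ k : ℕ, ⁅(x : A) ^ k, y⁆ = ⁅(x : A), y⁆ ^ k := fun k => by
    induction k with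
    | zero => simp
    | succ k ih =>
      rw [pow_succ', comm_mul_left, ih, central_conj (hf.cent x.2) (pow_mem (hf.comm _ x.2 y hy) k), ← pow_succ]
  rw [← this, comm_eq_one_iff]
  exact Subgroup.mem_centralizer_iff.mp (hf.cent hy) _ hxs

variable [Finite V]

omit hf in
theorem moduleField_card (h : Setup A V Z) : letI := h.field.toField
    Nat.card V = Nat.card (genRing (V := V) Z) ^ Module.finrank (genRing (V := V) Z) V := by
  letI := h.field.toField
  exact Module.natCard_eq_pow_finrank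

/-- The module has dimension at least the root of the index. -/
theorem card_ge : Nat.card (genRing (V := V) Z) ^ Z.relIndex L ≤ Nat.card V := by
  haveI := hf.base.normal
  classical
  letI : Field (genRing (V := V) Z) := hf.base.field.toField
  let R := genRing (V := V) Z
  let T : F ⧸ Z.subgroupOf F → (V →ₗ[R] V) := fun q =>
    { toFun := fun x => ((q.out : F) : A) • x
      map_add' := fun x y => smul_add _ x y
      map_smul' := fun r x => linear_of_mem (hf.cent q.out.2) r.2 x }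
  have key : ∀ (s : Finset (F ⧸ Z.subgroupOf F)) (c : F ⧸ Z.subgroupOf F → R),
      (∀ x : V, ∑ q ∈ s, (c q).1 (((q.out : F) : A) • x) = 0) → ∀ q ∈ s, c q = 0 := by
    intro s
    induction s using Finset.induction_on with
    | empty => simp
    | @insert p s hp ih =>
      intro c hc
      have hs : ∀ q ∈ s, c q = 0 := fun q hq => by
        obtain ⟨y, hy, hne⟩ : ∃ y ∈ F, ⁅((q.out : F) : A), y⁆ ≠ ⁅((p.out : F) : A), y⁆ := by
          by_contra hcon
          push Not at hcon
          refine hp ?_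
          have : p = q := by
            rw [← Quotient.out_eq p, ← Quotient.out_eq q]
            refine (QuotientGroup.eq (s := Z.subgroupOf F)).mpr (hf.centre_F (F.mul_mem (F.inv_mem p.out.2) q.out.2) fun y hy => ?_)
            have e2 : ((p.out : F) : A) * ⁅((p.out : F) : A)⁻¹ * (q.out : F), y⁆ * ((p.out : F) : A)⁻¹ * ⁅((p.out : F) : A), y⁆
                = ⁅((q.out : F) : A), y⁆ := by rw [← comm_mul_left, mul_inv_cancel_left]
            rw [hcon y hy, mul_eq_right, conj_eq_one_iff] at e2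
            exact e2
          exact this ▸ hq
        let χ : F ⧸ Z.subgroupOf F → R := fun q => ⟨rho ⁅((q.out : F) : A), y⁆, rho_mem (hf.comm _ q.out.2 y hy)⟩
        have hc' : ∀ x : V, ∑ r ∈ insert p s, (χ r * c r).1 (((r.out : F) : A) • x) = 0 := fun x => by
          have h1 := hc (y • x)
          have h2 : ∀ r : F ⧸ Z.subgroupOf F, (c r).1 (((r.out : F) : A) • y • x)
              = y • (χ r * c r).1 (((r.out : F) : A) • x) := fun r => by
            rw [linear_of_mem (hf.cent hy) (χ r * c r).2]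
            show _ = ⁅((r.out : F) : A), y⁆ • (c r).1 _
            rw [linear_of_mem (hf.base.le_centralizer (hf.comm _ r.out.2 y hy)) (c r).2, ← mul_smul, ← mul_smul,
              ← mul_smul]
            congr 2
            simp [commutatorElement_def, mul_assoc]
          simp only [h2, ← Finset.smul_sum, smul_eq_zero_iff_eq] at h1
          exact h1
        have h3 : ∀ x : V, ∑ r ∈ s, ((χ r - χ p) * c r).1 (((r.out : F) : A) • x) = 0 := fun x => by
          have e : ∑ r ∈ insert p s, ((χ r - χ p) * c r).1 (((r.out : F) : A) • x) = 0 := by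
            have : ∀ r, ((χ r - χ p) * c r).1 (((r.out : F) : A) • x)
                = (χ r * c r).1 (((r.out : F) : A) • x) - (χ p).1 ((c r).1 (((r.out : F) : A) • x)) := fun r => rfl
            rw [Finset.sum_congr rfl fun r _ => this r, Finset.sum_sub_distrib, hc', ← map_sum, hc, map_zero, sub_zero]
          rw [Finset.sum_insert hp] at e
          simpa using e
        have h4 := ih (fun r => (χ r - χ p) * c r) h3 q hq
        exact (mul_eq_zero.mp h4).resolve_left (sub_ne_zero.mpr fun e => hne (hf.base.rho_inj (congrArg Subtype.val e)))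
      intro q hq
      rcases Finset.mem_insert.mp hq with rfl | hq
      · refine Subtype.ext (DFunLike.ext _ _ fun x => ?_)
        have := hc (((q.out : F) : A)⁻¹ • x)
        rw [Finset.sum_insert hp, Finset.sum_eq_zero (fun r hr => by rw [hs r hr]; rfl), add_zero, smul_inv_smul] at this
        exact this
      · exact hs q hq
  haveI : Fintype (F ⧸ Z.subgroupOf F) := Fintype.ofFinite _
  have hli : LinearIndependent R T := Fintype.linearIndependent_iff.mpr fun c hc q => by
    refine key Finset.univ c (fun x => ?_) q (Finset.mem_univ q)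
    have := LinearMap.congr_fun hc x
    simp only [LinearMap.coe_sum, Finset.sum_apply, LinearMap.smul_apply, LinearMap.zero_apply] at this
    exact this
  have h1 := hli.fintype_card_le_finrank
  rw [Module.finrank_linearMap, ← Nat.card_eq_fintype_card] at h1
  have h2 : Z.relIndex L * Z.relIndex L ≤ Module.finrank R V * Module.finrank R V := hf.sq_index ▸ h1
  rw [moduleField_card hf.base]
  exact Nat.pow_le_pow_right Nat.card_pos (Nat.mul_self_le_mul_self_iff.mp h2)

end Frame

end CfsgLib.OddBase
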